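import Mathlib
import Cfsg.Prelude.Def_Characters
import Cfsg.Agent.Characters.Core
import Cfsg.Agent.Characters.Clifford
import Cfsg.Agent.Characters.Permutation

/-!
# Conjugation action on real-valued irreducible characters and real classes of a normal subgroup

For `K ⊴ G` of odd index, every `g : G` fixes as many real-valued irreducible characters of `K` as
real conjugacy classes of `K` (`card_fixed_real`).
-/

set_option autoImplicit false
open Cfsg

namespace Cfsg.Agent.H692.RealAct

open Cfsg.Agent.Characters.Core Cfsg.Agent.Characters.Clifford Cfsg.Agent.Characters.Permutation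
open scoped ComplexConjugate

universe u
variable {G : Type u} [Group G] {K : Subgroup G} [hK : K.Normal]

/-- The conjugate of an irreducible character of a normal subgroup:
`(g • θ) k = θ (g⁻¹ k g)`. -/
noncomputable def irrSmul (g : G) (θ : IrrCharacter K) : IrrCharacter K :=
  ⟨(θ : K → ℂ) ∘ (MulAut.conjNormal g⁻¹ : MulAut K), isIrr_conjNormal θ.2 g⁻¹⟩

/-- The complex conjugate of an irreducible character. -/
noncomputable def irrConj {H : Type u} [Group H] [Finite H] (θ : IrrCharacter H) : IrrCharacter H :=
  ⟨fun k => conj ((θ : H → ℂ) k), isIrr_conj θ.2⟩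

/-- Conjugation on the classes of a normal subgroup. -/
def clSmul (g : G) (C : ConjClasses K) : ConjClasses K :=
  ConjClasses.map ((MulAut.conjNormal g : MulAut K) : K →* K) C

/-- Inversion on classes. -/
def clInv {H : Type u} [Group H] (C : ConjClasses H) : ConjClasses H :=
  Quotient.map (fun k : H => k⁻¹) (by
    intro a b h
    obtain ⟨c, hc⟩ := isConj_iff.1 (h : IsConj a b)
    exact isConj_iff.2 ⟨c, by rw [← hc]; group⟩) C

theorem clInv_mk {H : Type u} [Group H] (k : H) : clInv (ConjClasses.mk k) = ConjClasses.mk k⁻¹ := rfl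

theorem clSmul_mk (g : G) (k : K) :
    clSmul g (ConjClasses.mk k) = ConjClasses.mk (MulAut.conjNormal g k) := rfl

theorem irrSmul_apply (g : G) (θ : IrrCharacter K) (k : K) :
    (irrSmul g θ : K → ℂ) k = (θ : K → ℂ) (MulAut.conjNormal g⁻¹ k) := rfl

theorem irrConj_apply {H : Type u} [Group H] [Finite H] (θ : IrrCharacter H) (k : H) :
    (irrConj θ : H → ℂ) k = conj ((θ : H → ℂ) k) := rfl

theorem irrSmul_one (θ : IrrCharacter K) : irrSmul 1 θ = θ := by
  apply Subtype.ext
  funext k
  rw [irrSmul_apply, inv_one, map_one, MulAut.one_apply]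

theorem irrSmul_mul (g h : G) (θ : IrrCharacter K) : irrSmul (g * h) θ = irrSmul g (irrSmul h θ) := by
  apply Subtype.ext
  funext k
  simp only [irrSmul_apply]
  rw [mul_inv_rev, map_mul, MulAut.mul_apply]

theorem clSmul_one (C : ConjClasses K) : clSmul 1 C = C := by
  obtain ⟨c, rfl⟩ := ConjClasses.exists_rep C
  rw [clSmul_mk]
  congr 1
  ext
  simp

theorem clSmul_mul (g h : G) (C : ConjClasses K) : clSmul (g * h) C = clSmul g (clSmul h C) := by
  obtain ⟨c, rfl⟩ := ConjClasses.exists_rep C
  simp only [clSmul_mk]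
  congr 1
  ext
  simp only [MulAut.conjNormal_apply]
  group

theorem irrSmul_of_mem {g : G} (hg : g ∈ K) (θ : IrrCharacter K) : irrSmul g θ = θ := by
  apply Subtype.ext
  funext k
  rw [irrSmul_apply]
  have := isIrr_isClassFunction θ.2 k (⟨g, hg⟩⁻¹ : K)
  rw [← this]
  congr 1

theorem clSmul_of_mem {g : G} (hg : g ∈ K) (C : ConjClasses K) : clSmul g C = C := by
  obtain ⟨c, rfl⟩ := ConjClasses.exists_rep C
  rw [clSmul_mk]
  refine (ConjClasses.mk_eq_mk_iff_isConj.2 (isConj_iff.2 ⟨⟨g, hg⟩, ?_⟩)).symm
  ext
  simp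

section cc

variable [Finite G]

omit [Finite G] in
theorem irrConj_irrConj {H : Type u} [Group H] [Finite H] (θ : IrrCharacter H) :
    irrConj (irrConj θ) = θ := by
  apply Subtype.ext
  funext k
  simp only [irrConj_apply, Complex.conj_conj]

theorem irrConj_irrSmul (g : G) (θ : IrrCharacter K) :
    irrConj (irrSmul g θ) = irrSmul g (irrConj θ) := rfl

omit [Finite G] in
theorem clInv_clInv {H : Type u} [Group H] (C : ConjClasses H) : clInv (clInv C) = C := by
  obtain ⟨c, rfl⟩ := ConjClasses.exists_rep C
  simp only [clInv_mk, inv_inv]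

omit [Finite G] in
theorem clInv_clSmul (g : G) (C : ConjClasses K) : clInv (clSmul g C) = clSmul g (clInv C) := by
  obtain ⟨c, rfl⟩ := ConjClasses.exists_rep C
  simp only [clInv_mk, clSmul_mk, map_inv]

omit [Finite G] in
theorem irrConj_eq_iff {H : Type u} [Group H] [Finite H] (θ : IrrCharacter H) :
    irrConj θ = θ ↔ ∀ k : H, ((θ : H → ℂ) k).im = 0 := by
  constructor
  · intro h k
    have := congrFun (congrArg Subtype.val h) k
    exact Complex.conj_eq_iff_im.1 this
  · intro h
    apply Subtype.ext
    funext k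
    exact Complex.conj_eq_iff_im.2 (h k)

omit [Finite G] in
theorem clInv_eq_iff {H : Type u} [Group H] (C : ConjClasses H) :
    clInv C = C ↔ ∀ k : H, ConjClasses.mk k = C → IsConj k k⁻¹ := by
  constructor
  · rintro h k rfl
    exact (ConjClasses.mk_eq_mk_iff_isConj.1 h).symm
  · intro h
    obtain ⟨c, rfl⟩ := ConjClasses.exists_rep C
    exact ConjClasses.mk_eq_mk_iff_isConj.2 (h c rfl).symm

/-- A general fixed point argument: `s` and `c` commute, `c` is an involution, an odd power of `s` is
trivial; then the fixed points of `c ∘ s` are the common fixed points. -/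
theorem fixed_iff_of_odd {X : Type*} (s c : X → X) (hsc : ∀ x, c (s x) = s (c x))
    (hcc : ∀ x, c (c x) = x) (m : ℕ) (hm : Odd m) (x : X) (hs : s^[m] x = x) :
    c (s x) = x ↔ c x = x ∧ s x = x := by
  constructor
  · intro h
    -- iterates of `c ∘ s`
    have hcomm : Function.Commute c s := hsc
    have h1 : (c ∘ s)^[m] x = x := Function.iterate_fixed h m
    have h2 : c^[m] x = x := by
      have e := congrFun (Function.Commute.comp_iterate hcomm m) x
      rw [e, Function.comp_apply, hs] at h1
      exact h1
    obtain ⟨k, rfl⟩ := hm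
    have h3 : c^[2 * k + 1] x = c x := by
      rw [Function.iterate_succ_apply, Function.iterate_mul]
      have : c^[2] = id := by
        funext y
        exact hcc y
      rw [this, Function.iterate_id]
      rfl
    have h4 : c x = x := h3 ▸ h2
    refine ⟨h4, ?_⟩
    have h5 := congrArg c h
    rw [hcc, h4] at h5
    exact h5
  · rintro ⟨h1, h2⟩
    rw [h2, h1]

omit [Finite G] in
theorem irrSmul_iterate (g : G) (m : ℕ) (θ : IrrCharacter K) :
    (irrSmul g)^[m] θ = irrSmul (g ^ m) θ := by
  induction m generalizing θ with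
  | zero => rw [Function.iterate_zero_apply, pow_zero, irrSmul_one]
  | succ m ih => rw [Function.iterate_succ_apply, ih, ← irrSmul_mul, pow_succ]

omit [Finite G] in
theorem clSmul_iterate (g : G) (m : ℕ) (C : ConjClasses K) :
    (clSmul g)^[m] C = clSmul (g ^ m) C := by
  induction m generalizing C with
  | zero => rw [Function.iterate_zero_apply, pow_zero, clSmul_one]
  | succ m ih => rw [Function.iterate_succ_apply, ih, ← clSmul_mul, pow_succ]

omit [Finite G] in
theorem exists_odd_pow_mem (hodd : Odd K.index) (g : G) : g ^ K.index ∈ K ∧ Odd K.index :=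
  ⟨Subgroup.pow_index_mem K g, hodd⟩

/-- The number of characters with `conj (g • θ) = θ` is the number of classes with
`(g • C)⁻¹ = C`. -/
theorem card_fixed_conj (g : G) :
    Nat.card {θ : IrrCharacter K // irrConj (irrSmul g θ) = θ} =
      Nat.card {C : ConjClasses K // clInv (clSmul g C) = C} := by
  let τ : Equiv.Perm (ConjClasses K) :=
    { toFun := fun C => clInv (clSmul g C)
      invFun := fun C => clSmul g⁻¹ (clInv C)
      left_inv := by
        intro C
        show clSmul g⁻¹ (clInv (clInv (clSmul g C))) = C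
        rw [clInv_clInv, ← clSmul_mul, inv_mul_cancel, clSmul_one]
      right_inv := by
        intro C
        show clInv (clSmul g (clSmul g⁻¹ (clInv C))) = C
        rw [← clSmul_mul, mul_inv_cancel, clSmul_one, clInv_clInv] }
  refine card_fixed_eq (fun θ : IrrCharacter K => irrConj (irrSmul g θ)) τ ?_
  intro χ k k' h
  have h' : ConjClasses.mk k' = ConjClasses.mk ((MulAut.conjNormal g k)⁻¹ : K) := h
  obtain ⟨c, hc⟩ := isConj_iff.1 (ConjClasses.mk_eq_mk_iff_isConj.1 h').symm
  have e1 : MulAut.conjNormal g⁻¹ k' =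
      (MulAut.conjNormal g⁻¹ c) * k⁻¹ * (MulAut.conjNormal g⁻¹ c)⁻¹ := by
    rw [← hc]
    simp only [map_mul, map_inv, MulAut.inv_apply_self]
  rw [irrConj_apply, irrSmul_apply, e1, isIrr_isClassFunction χ.2,
    isCharacter_apply_inv (isIrr_isCharacter χ.2), Complex.conj_conj]

/-- **Fixed points on real characters and real classes**: for `K` of odd index, `g` fixes as many
real-valued irreducible characters as real classes. -/
theorem card_fixed_real (hodd : Odd K.index) (g : G) :
    Nat.card {θ : IrrCharacter K // (∀ k : K, ((θ : K → ℂ) k).im = 0) ∧ irrSmul g θ = θ} =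
      Nat.card {C : ConjClasses K // (∀ k : K, ConjClasses.mk k = C → IsConj k k⁻¹) ∧
        clSmul g C = C} := by
  have h := card_fixed_conj (K := K) g
  have e1 : ∀ θ : IrrCharacter K, irrConj (irrSmul g θ) = θ ↔
      (∀ k : K, ((θ : K → ℂ) k).im = 0) ∧ irrSmul g θ = θ := by
    intro θ
    rw [fixed_iff_of_odd (irrSmul g) irrConj (fun x => irrConj_irrSmul g x) irrConj_irrConj
      K.index hodd θ (by
        rw [irrSmul_iterate, irrSmul_of_mem (Subgroup.pow_index_mem K g)]), irrConj_eq_iff]
  have e2 : ∀ C : ConjClasses K, clInv (clSmul g C) = C ↔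
      (∀ k : K, ConjClasses.mk k = C → IsConj k k⁻¹) ∧ clSmul g C = C := by
    intro C
    rw [fixed_iff_of_odd (clSmul g) clInv (fun x => clInv_clSmul g x) clInv_clInv
      K.index hodd C (by
        rw [clSmul_iterate, clSmul_of_mem (Subgroup.pow_index_mem K g)]), clInv_eq_iff]
  simpa only [e1, e2] using h

end cc

/-! ### The actions -/

/-- Real-valued irreducible characters of `K`. -/
def RIrr (K : Subgroup G) : Type u :=
  {θ : IrrCharacter K // ∀ k : K, ((θ : K → ℂ) k).im = 0}

/-- Real conjugacy classes of `K`. -/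
def RCl (K : Subgroup G) : Type u :=
  {C : ConjClasses K // ∀ k : K, ConjClasses.mk k = C → IsConj k k⁻¹}

noncomputable instance mulActionRIrr : MulAction G (RIrr K) where
  smul g θ := ⟨irrSmul g θ.1, fun _ => θ.2 _⟩
  one_smul θ := Subtype.ext (irrSmul_one θ.1)
  mul_smul g h θ := Subtype.ext (irrSmul_mul g h θ.1)

theorem coe_smul_rirr (g : G) (θ : RIrr K) : (g • θ).1 = irrSmul g θ.1 := rfl

noncomputable instance mulActionRCl : MulAction G (RCl K) where
  smul g C := ⟨clSmul g C.1, by
    obtain ⟨C, hC⟩ := C
    rw [← clInv_eq_iff] at hC ⊢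
    rw [clInv_clSmul, hC]⟩
  one_smul C := Subtype.ext (clSmul_one C.1)
  mul_smul g h C := Subtype.ext (clSmul_mul g h C.1)

theorem coe_smul_rcl (g : G) (C : RCl K) : (g • C).1 = clSmul g C.1 := rfl

instance finite_rirr [Finite G] : Finite (RIrr K) := by
  have := finite_irr (G := K)
  unfold RIrr
  infer_instance

instance finite_rcl [Finite G] : Finite (RCl K) := by
  unfold RCl
  infer_instance

/-- Every `g : G` fixes as many points of `RIrr K` as of `RCl K`. -/
theorem card_fixedBy_eq [Finite G] (hodd : Odd K.index) (g : G) :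
    Nat.card (MulAction.fixedBy (RIrr K) g) = Nat.card (MulAction.fixedBy (RCl K) g) := by
  have h := card_fixed_real hodd g
  have e1 : Nat.card (MulAction.fixedBy (RIrr K) g) =
      Nat.card {θ : IrrCharacter K // (∀ k : K, ((θ : K → ℂ) k).im = 0) ∧ irrSmul g θ = θ} := by
    refine Nat.card_congr
      { toFun := fun θ => ⟨θ.1.1, θ.1.2, congrArg Subtype.val θ.2⟩
        invFun := fun θ => ⟨⟨θ.1, θ.2.1⟩, Subtype.ext θ.2.2⟩
        left_inv := fun θ => rfl
        right_inv := fun θ => rfl }
  have e2 : Nat.card (MulAction.fixedBy (RCl K) g) =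
      Nat.card {C : ConjClasses K // (∀ k : K, ConjClasses.mk k = C → IsConj k k⁻¹) ∧
        clSmul g C = C} := by
    refine Nat.card_congr
      { toFun := fun θ => ⟨θ.1.1, θ.1.2, congrArg Subtype.val θ.2⟩
        invFun := fun θ => ⟨⟨θ.1, θ.2.1⟩, Subtype.ext θ.2.2⟩
        left_inv := fun θ => rfl
        right_inv := fun θ => rfl }
  rw [e1, e2, h]

/-- Two finite actions with the same number of fixed points for each element have the same number
of orbits. -/
theorem card_orbits_eq {A : Type*} [Group A] [Finite A] {X Y : Type*} [Finite X] [Finite Y]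
    [MulAction A X] [MulAction A Y]
    (h : ∀ a : A, Nat.card (MulAction.fixedBy X a) = Nat.card (MulAction.fixedBy Y a)) :
    Nat.card (MulAction.orbitRel.Quotient A X) = Nat.card (MulAction.orbitRel.Quotient A Y) := by
  classical
  have := Fintype.ofFinite A
  have := Fintype.ofFinite X
  have := Fintype.ofFinite Y
  have h1 := MulAction.sum_card_fixedBy_eq_card_orbits_mul_card_group A X
  have h2 := MulAction.sum_card_fixedBy_eq_card_orbits_mul_card_group A Y
  have h3 : ∑ a : A, Fintype.card (MulAction.fixedBy X a) =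
      ∑ a : A, Fintype.card (MulAction.fixedBy Y a) := by
    refine Finset.sum_congr rfl fun a _ => ?_
    rw [← Nat.card_eq_fintype_card, ← Nat.card_eq_fintype_card, h]
  rw [h1, h2] at h3
  rw [Nat.card_eq_fintype_card, Nat.card_eq_fintype_card]
  exact Nat.eq_of_mul_eq_mul_right Fintype.card_pos h3

end Cfsg.Agent.H692.RealAct
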