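import Mathlib

/-!
# Normal Sylow subgroups of normal subgroups: induction tools

`pGen p G` is the subgroup generated by the `p`-elements (the smallest normal subgroup of index
prime to `p`).  `NSyl p W` says that the normal subgroup `W` of `G` has a normal Sylow
`p`-subgroup.
-/

set_option autoImplicit false

namespace Cfsg.Agent.H692.NSyl

universe u
variable {G : Type u} [Group G]

/-- The subgroup generated by the elements of `p`-power order. -/
def pGen (p : ℕ) (G : Type*) [Group G] : Subgroup G :=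
  Subgroup.closure {g : G | ∃ k : ℕ, orderOf g = p ^ k}

theorem pGen_normal (p : ℕ) : (pGen p G).Normal := by
  have h : ∀ (g : G), ∀ x ∈ pGen p G, g * x * g⁻¹ ∈ pGen p G := by
    intro g x hx
    unfold pGen at hx ⊢
    induction hx using Subgroup.closure_induction with
    | mem x hx =>
      obtain ⟨k, hk⟩ := hx
      refine Subgroup.subset_closure ⟨k, ?_⟩
      rw [← hk]
      have := orderOf_injective (MulAut.conj g).toMonoidHom (MulAut.conj g).injective x
      simpa using this
    | one => simp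
    | mul x y _ _ hx hy =>
      have := Subgroup.mul_mem _ hx hy
      simpa [mul_assoc] using this
    | inv x _ hx =>
      have := Subgroup.inv_mem _ hx
      simpa [mul_assoc] using this
  exact ⟨fun x hx g => h g x hx⟩

/-- Elements of `p`-power order lift to elements of `p`-power order. -/
theorem exists_lift {H : Type*} [Group H] [Finite G] {p : ℕ} (hp : p.Prime) (f : G →* H)
    (hf : Function.Surjective f) {h : H} {k : ℕ} (hk : orderOf h = p ^ k) :
    ∃ g : G, f g = h ∧ ∃ j : ℕ, orderOf g = p ^ j := by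
  obtain ⟨x, rfl⟩ := hf h
  have hx : orderOf x ≠ 0 := (orderOf_pos x).ne'
  set a := (orderOf x).factorization p with ha
  set m := orderOf x / p ^ a with hm
  have hcop : Nat.Coprime (p ^ k) m :=
    Nat.Coprime.pow_left k (Nat.coprime_ordCompl hp hx)
  have hmul : p ^ a * m = orderOf x := Nat.ordProj_mul_ordCompl_eq_self _ _
  obtain ⟨j, hj1, hj2⟩ := Nat.chineseRemainder hcop 1 0
  refine ⟨x ^ j, ?_, ?_⟩
  · rw [map_pow]
    have h1 : (f x) ^ j = (f x) ^ 1 := by
      rw [pow_eq_pow_iff_modEq, hk]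
      exact hj1
    rw [h1, pow_one]
  · have h2 : m ∣ j := (Nat.modEq_zero_iff_dvd).1 hj2
    have h3 : (x ^ j) ^ (p ^ a) = 1 := by
      rw [← pow_mul]
      apply orderOf_dvd_iff_pow_eq_one.1
      rw [← hmul, mul_comm (p ^ a) m]
      exact Nat.mul_dvd_mul_right h2 _
    obtain ⟨i, -, hi⟩ := (Nat.dvd_prime_pow hp).1 (orderOf_dvd_of_pow_eq_one h3)
    exact ⟨i, hi⟩

theorem map_pGen {H : Type*} [Group H] [Finite G] {p : ℕ} (hp : p.Prime) (f : G →* H)
    (hf : Function.Surjective f) : (pGen p G).map f = pGen p H := by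
  unfold pGen
  rw [MonoidHom.map_closure]
  congr 1
  ext h
  constructor
  · rintro ⟨g, ⟨k, hk⟩, rfl⟩
    have h1 : orderOf (f g) ∣ p ^ k := hk ▸ orderOf_map_dvd f g
    obtain ⟨i, -, hi⟩ := (Nat.dvd_prime_pow hp).1 h1
    exact ⟨i, hi⟩
  · rintro ⟨k, hk⟩
    obtain ⟨g, hg, j, hj⟩ := exists_lift hp f hf hk
    exact ⟨g, ⟨j, hj⟩, hg⟩

/-- A nontrivial normal subgroup of a finite group contains a minimal normal subgroup. -/
theorem exists_minimal_normal [Finite G] (X : Subgroup G) (hXn : X.Normal) (hX : X ≠ ⊥) :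
    ∃ N : Subgroup G, N.Normal ∧ N ≤ X ∧ N ≠ ⊥ ∧
      ∀ M : Subgroup G, M.Normal → M ≤ N → M = ⊥ ∨ M = N := by
  obtain ⟨N, hN⟩ := (Set.toFinite {N : Subgroup G | N.Normal ∧ N ≤ X ∧ N ≠ ⊥}).exists_minimal
    ⟨X, hXn, le_rfl, hX⟩
  obtain ⟨⟨h1, h2, h3⟩, h4⟩ := hN
  refine ⟨N, h1, h2, h3, fun M hM hMN => ?_⟩
  by_contra hcon
  push Not at hcon
  exact hcon.2 (le_antisymm hMN (h4 ⟨hM, hMN.trans h2, hcon.1⟩ hMN))

/-- A solvable minimal normal subgroup is an elementary abelian `r`-group. -/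
theorem elementary_of_minimal [Finite G] (N : Subgroup G) (hNn : N.Normal) (hN : N ≠ ⊥)
    (hmin : ∀ M : Subgroup G, M.Normal → M ≤ N → M = ⊥ ∨ M = N) (hs : Group.IsSolvable N) :
    (∀ a ∈ N, ∀ b ∈ N, a * b = b * a) ∧ ∃ r : ℕ, r.Prime ∧ ∀ a ∈ N, a ^ r = 1 := by
  have hcomm : ∀ a ∈ N, ∀ b ∈ N, a * b = b * a := by
    rcases hmin ⁅N, N⁆ (Subgroup.commutator_normal N N) (Subgroup.commutator_le_self N) with h | h
    · intro a ha b hb
      rw [Subgroup.commutator_eq_bot_iff_le_centralizer] at h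
      exact Subgroup.mem_centralizer_iff.1 (h hb) a ha
    · exfalso
      have hnt : Nontrivial N := (Subgroup.nontrivial_iff_ne_bot N).2 hN
      have h1 : commutator N ≠ ⊤ := (Group.IsSolvable.commutator_lt_top_of_nontrivial N).ne
      apply h1
      have h2 : (commutator N).map N.subtype = (⊤ : Subgroup N).map N.subtype := by
        rw [Subgroup.map_subtype_commutator, h, ← MonoidHom.range_eq_map, Subgroup.range_subtype]
      exact Subgroup.map_injective N.subtype_injective h2
  refine ⟨hcomm, ?_⟩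
  have hc1 : Nat.card N ≠ 1 := fun h => hN (Subgroup.card_eq_one.1 h)
  obtain ⟨r, hr, hrd⟩ := Nat.exists_prime_and_dvd hc1
  have : Fact r.Prime := ⟨hr⟩
  refine ⟨r, hr, ?_⟩
  obtain ⟨x, hx⟩ := exists_prime_orderOf_dvd_card' r hrd
  let M : Subgroup G :=
    { carrier := {a | a ∈ N ∧ a ^ r = 1}
      mul_mem' := by
        rintro a b ⟨ha, ha'⟩ ⟨hb, hb'⟩
        refine ⟨N.mul_mem ha hb, ?_⟩
        rw [(show Commute a b from hcomm a ha b hb).mul_pow, ha', hb', one_mul]
      one_mem' := ⟨N.one_mem, one_pow r⟩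
      inv_mem' := by
        rintro a ⟨ha, ha'⟩
        exact ⟨N.inv_mem ha, by rw [inv_pow, ha', inv_one]⟩ }
  have hM : M.Normal := by
    refine ⟨fun a ha g => ?_⟩
    obtain ⟨ha, ha'⟩ := ha
    refine ⟨hNn.conj_mem a ha g, ?_⟩
    rw [conj_pow, ha', mul_one, mul_inv_cancel]
  rcases hmin M hM (fun a ha => ha.1) with h | h
  · exfalso
    have h1 : (x : G) ∈ M := ⟨x.2, by
      rw [← Subgroup.coe_pow, ← hx, pow_orderOf_eq_one, Subgroup.coe_one]⟩
    rw [h, Subgroup.mem_bot] at h1
    have h2 : x = 1 := Subtype.ext h1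
    rw [h2, orderOf_one] at hx
    exact hr.one_lt.ne hx
  · intro a ha
    have : a ∈ M := h ▸ ha
    exact this.2

/-- The normal subgroup `W` has a normal Sylow `p`-subgroup. -/
def HasNSyl (p : ℕ) (W : Subgroup G) : Prop :=
  ∃ P : Subgroup G, P.Normal ∧ IsPGroup p P ∧ P ≤ W ∧ ¬ p ∣ P.relIndex W

theorem HasNSyl.sylow_normal [Finite G] {p : ℕ} [hp : Fact p.Prime] {W : Subgroup G}
    (h : HasNSyl p W) (Q : Sylow p W) : (Q : Subgroup W).Normal := by
  obtain ⟨P, h1, h2, h3, h4⟩ := h
  have h5 : IsPGroup p (P.subgroupOf W) := h2.comap_subtype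
  let Q' : Sylow p W := h5.toSylow h4
  have h6 : (Q' : Subgroup W) = P.subgroupOf W := rfl
  have h7 : (Q' : Subgroup W).Normal := by
    rw [h6]
    infer_instance
  have h8 : Unique (Sylow p W) := Sylow.unique_of_normal Q' h7
  rw [Subsingleton.elim Q Q']
  exact h7

/-- A normal subgroup `R` with a normal `p'`-subgroup `N` centralized by `R` such that `R / N` is a
`p`-group has a normal Sylow `p`-subgroup. -/
theorem hasNSyl_of_commute [Finite G] {p : ℕ} [hp : Fact p.Prime] {N R : Subgroup G}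
    (hRn : R.Normal) (hNR : N ≤ R) {k : ℕ} (hk : N.relIndex R = p ^ k)
    (hc : ⁅N, R⁆ = ⊥) : HasNSyl p R := by
  obtain ⟨P⟩ := (inferInstance : Nonempty (Sylow p R))
  set P₁ : Subgroup G := (P : Subgroup R).map R.subtype with hP₁
  have hP1R : P₁ ≤ R := Subgroup.map_subtype_le _
  have hpP : IsPGroup p P₁ := P.2.map _
  have hidx : ¬ p ∣ P₁.relIndex R := by
    have h1 : P₁.relIndex R = (P : Subgroup R).index := by
      rw [Subgroup.relIndex, hP₁, Subgroup.subgroupOf, Subgroup.comap_map_eq_self_of_injective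
        R.subtype_injective]
    rw [h1]
    exact P.not_dvd_index
  -- `R = P₁ ⊔ N`
  have hsup : P₁ ⊔ N = R := by
    refine le_antisymm (sup_le hP1R hNR) ?_
    rw [← Subgroup.relIndex_eq_one]
    have h1 : (P₁ ⊔ N).relIndex R ∣ P₁.relIndex R :=
      Subgroup.relIndex_dvd_of_le_left R le_sup_left
    have h2 : (P₁ ⊔ N).relIndex R ∣ N.relIndex R :=
      Subgroup.relIndex_dvd_of_le_left R le_sup_right
    rw [hk] at h2
    obtain ⟨i, -, hi⟩ := (Nat.dvd_prime_pow hp.out).1 h2
    rcases Nat.eq_zero_or_pos i with rfl | hi0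
    · simpa using hi
    · exfalso
      apply hidx
      refine dvd_trans ?_ h1
      rw [hi]
      exact dvd_pow_self p hi0.ne'
  -- `N` centralizes `P₁`
  have hNc : N ≤ Subgroup.normalizer (P₁ : Set G) := by
    intro n hn
    rw [Subgroup.mem_normalizer_iff]
    intro x
    rw [Subgroup.commutator_eq_bot_iff_le_centralizer] at hc
    have h3 : ∀ y ∈ R, y * n = n * y := fun y hy =>
      Subgroup.mem_centralizer_iff.1 (hc hn) y hy
    constructor
    · intro hx
      rw [← h3 x (hP1R hx), mul_inv_cancel_right]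
      exact hx
    · intro hx
      have h4 := h3 _ (hP1R hx)
      have h5 : n * x * n⁻¹ * n = n * x := by group
      rw [h5] at h4
      have h6 : x = n * x * n⁻¹ := mul_left_cancel h4
      rw [h6]
      exact hx
  have hRn' : R ≤ Subgroup.normalizer (P₁ : Set G) := by
    rw [← hsup]
    exact sup_le Subgroup.le_normalizer hNc
  have hfr := Sylow.normalizer_sup_eq_top P
  have htop : Subgroup.normalizer (P₁ : Set G) = ⊤ := by
    rw [← hfr]
    refine (sup_eq_left.2 ?_).symm
    exact hRn'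
  exact ⟨P₁, Subgroup.normalizer_eq_top_iff.1 htop, hpP, hP1R, hidx⟩

/-- Lifting a normal Sylow subgroup from a quotient by a normal subgroup `N ≤ W`: the preimage
`R`. -/
theorem HasNSyl.lift [Finite G] {p : ℕ} [hp : Fact p.Prime] {N W : Subgroup G} (hN : N.Normal)
    (hNW : N ≤ W) (h : HasNSyl p (W.map (QuotientGroup.mk' N))) :
    ∃ R : Subgroup G, R.Normal ∧ N ≤ R ∧ R ≤ W ∧ (∃ k, N.relIndex R = p ^ k) ∧
      ¬ p ∣ R.relIndex W := by
  obtain ⟨P, h1, h2, h3, h4⟩ := h
  have hker : (QuotientGroup.mk' N).ker = N := QuotientGroup.ker_mk' N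
  have hsurj := QuotientGroup.mk'_surjective N
  refine ⟨P.comap (QuotientGroup.mk' N), inferInstance, ?_, ?_, ?_, ?_⟩
  · intro n hn
    rw [Subgroup.mem_comap]
    have : QuotientGroup.mk' N n = 1 := by
      rw [← MonoidHom.mem_ker, hker]
      exact hn
    rw [this]
    exact P.one_mem
  · have h5 := Subgroup.comap_mono (f := QuotientGroup.mk' N) h3
    rwa [Subgroup.comap_map_eq, hker, sup_eq_left.2 hNW] at h5
  · obtain ⟨k, hk⟩ := IsPGroup.iff_card.1 h2
    refine ⟨k, ?_⟩
    rw [← hk]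
    have h6 := Subgroup.relIndex_ker (P.comap (QuotientGroup.mk' N)) (QuotientGroup.mk' N)
    rw [hker, Subgroup.map_comap_eq_self_of_surjective hsurj] at h6
    exact h6
  · intro h5
    apply h4
    have h6 : (P.comap (QuotientGroup.mk' N)).relIndex W =
        P.relIndex (W.map (QuotientGroup.mk' N)) := Subgroup.relIndex_comap P _ W
    rwa [h6] at h5

end Cfsg.Agent.H692.NSyl
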