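import Cfsg.Agent.H383.Cube.Basic
import Cfsg.Agent.H997.OutMcL
import Cfsg.Agent.SigZero.CoThree
import Cfsg.Agent.S1578

/-!
# `CubeBound` for the McLaughlin group (helper692, S5721)

An outer involutory automorphism of `McL` is conjugation by an involution `c` of `Co₃ = Stab(V)` interchanging `U` and
`W = -V-U`; its fixed points are the stabiliser of `U` in `C_{Co₃}(c)`. The orbit of `U` has at most 552 members if `c` is of
class 2A (`|C(c)| = 2903040`) and at most 48 if `c` is of class 2B (`|C(c)| ≥ |M₁₂| = 95040`).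
-/

set_option autoImplicit false
open scoped Pointwise

namespace Cfsg.Agent.H692.CubeMcL

open Cfsg Cfsg.Agent.H383.Cube
open Cfsg.Agent.SigZero.CoThreeB
open Cfsg.Agent.SporadicStructure.LeechBase
open Cfsg.Agent.SporadicStructure.GolayEven
open Cfsg.Agent.SporadicStructure.Co0Base
open Cfsg.Agent.SporadicStructure.StdCross

/-- a lower bound for a point stabiliser -/
theorem card_le_mul_stab {Γ X : Type*} [Group Γ] [Finite Γ] [MulAction Γ X] (x : X) (S : Set X) (hS : S.Finite)
    (h : ∀ g : Γ, g • x ∈ S) : Nat.card Γ ≤ S.ncard * Nat.card (MulAction.stabilizer Γ x) := by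
  have h1 : Nat.card (MulAction.orbit Γ x) * Nat.card (MulAction.stabilizer Γ x) = Nat.card Γ := by
    rw [← Nat.card_prod]
    exact Nat.card_congr (MulAction.orbitProdStabilizerEquivGroup Γ x)
  rw [← h1]
  apply Nat.mul_le_mul_right
  rw [Nat.card_coe_set_eq]
  apply Set.ncard_le_ncard _ hS
  rintro _ ⟨g, rfl⟩
  exact h g

/-! ### the vectors `x` with `w0 x = v2 - x` -/

/-- the candidates -/
def cand (p : Bool × GolayPt) : GolayPt → ℤ := fun i =>
  (if p.1 = true ∧ i ∈ D then -1 else 1) + (if i = p.2 then (if p.1 = true then 4 else -4) else 0)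

theorem exists_cand {x : leechLattice} (hn : sqNorm (x : GolayPt → ℤ) = 32) (hw : w0 • x = v2 - x) :
    ∃ p, (x : GolayPt → ℤ) = cand p := by
  have hx := x.2
  rw [mem_leech_iff] at hx
  obtain ⟨m, z, hz, hs, h⟩ := hx
  -- coordinates off `D` are one
  have h1 : ∀ i, i ∉ D → (x : GolayPt → ℤ) i = 1 := by
    intro i hi
    have h2 := congrArg (fun y : leechLattice => (y : GolayPt → ℤ) i) hw
    simp only [w0_apply, AddSubgroup.coe_sub, Pi.sub_apply, v2_apply, if_neg hi] at h2
    linarith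
  obtain ⟨j, hj⟩ : ∃ j, j ∉ D := by
    by_contra hcon
    push Not at hcon
    have : D = Finset.univ := Finset.eq_univ_iff_forall.2 hcon
    have hc := card_D
    rw [this] at hc
    revert hc
    decide
  have hj1 := h1 j hj
  rw [h j] at hj1
  have ha : ∀ i, (x : GolayPt → ℤ) i = 1 + 2 * (z i - z j) := by
    intro i
    rw [h i]; linarith
  -- the word
  have hc : support₂ (red fun i => z i - z j) ∈ supports (golayCode : Set (GolayPt → ZMod 2)) := by
    refine ⟨red fun i => z i - z j, ?_, rfl⟩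
    have : (red fun i => z i - z j) = red z + ((z j : ℤ) : ZMod 2) • (1 : GolayPt → ZMod 2) := by
      funext i
      simp only [red_apply, Pi.add_apply, Pi.smul_apply, Pi.one_apply, smul_eq_mul, mul_one]
      push_cast
      rw [sub_eq_add_neg]
      congr 1
      exact ZMod.neg_eq_self_mod_two _
    rw [this]
    exact Submodule.add_mem _ hz (Submodule.smul_mem _ _ one_mem_golayCode)
  have hsub : support₂ (red fun i => z i - z j) ⊆ D := by
    intro i hi
    by_contra hiD
    rw [mem_supp_red] at hi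
    have h2 := ha i
    rw [h1 i hiD] at h2
    omega
  -- squares
  have hsq : ∀ i, ∃ t : ℤ, 0 ≤ t ∧ (x : GolayPt → ℤ) i ^ 2 = 1 + 8 * t := by
    intro i
    have h2 := ha i
    set y := z i - z j
    rcases Int.even_or_odd' y with ⟨k, hk | hk⟩
    · refine ⟨k * (2 * k + 1), ?_, ?_⟩
      · rcases le_or_gt 0 k with h3 | h3
        · positivity
        · exact mul_nonneg_of_nonpos_of_nonpos h3.le (by omega)
      · rw [h2, hk]; ring
    · refine ⟨(k + 1) * (2 * k + 1), ?_, ?_⟩
      · rcases le_or_gt 0 k with h3 | h3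
        · positivity
        · exact mul_nonneg_of_nonpos_of_nonpos (by omega) (by omega)
      · rw [h2, hk]; ring
  choose t ht0 ht using hsq
  have hsum : ∑ i, t i = 1 := by
    have h2 : ∑ i, (x : GolayPt → ℤ) i ^ 2 = 32 := hn
    rw [Finset.sum_congr rfl (fun i _ => ht i), Finset.sum_add_distrib, ← Finset.mul_sum, Finset.sum_const,
      nsmul_eq_mul, mul_one] at h2
    have h3 : ((Finset.univ : Finset GolayPt).card : ℤ) = 24 := by
      have : (Finset.univ : Finset GolayPt).card = 24 := by decide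
      rw [this]; rfl
    rw [h3] at h2
    linarith
  obtain ⟨i₀, hi₀⟩ : ∃ i, 0 < t i := by
    by_contra hcon
    push Not at hcon
    have h2 : ∑ i, t i = 0 := Finset.sum_eq_zero fun i _ => le_antisymm (hcon i) (ht0 i)
    rw [hsum] at h2
    exact absurd h2 (by norm_num)
  have hti : t i₀ + ∑ i ∈ Finset.univ.erase i₀, t i = 1 := by
    rw [Finset.add_sum_erase _ _ (Finset.mem_univ _), hsum]
  have hnn : 0 ≤ ∑ i ∈ Finset.univ.erase i₀, t i := Finset.sum_nonneg fun i _ => ht0 i
  have ht1 : t i₀ = 1 := by omega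
  have hto : ∀ i, i ≠ i₀ → t i = 0 := by
    intro i hi
    have h2 : ∑ i ∈ Finset.univ.erase i₀, t i = 0 := by omega
    exact (Finset.sum_eq_zero_iff_of_nonneg fun i _ => ht0 i).1 h2 i (Finset.mem_erase.2 ⟨hi, Finset.mem_univ _⟩)
  have hi₀D : i₀ ∈ D := by
    by_contra hcon
    have h2 := ht i₀
    rw [h1 i₀ hcon, ht1] at h2
    norm_num at h2
  have hsq1 : ∀ i, i ≠ i₀ → (x : GolayPt → ℤ) i = 1 ∨ (x : GolayPt → ℤ) i = -1 := by
    intro i hi
    have h2 := ht i
    rw [hto i hi, mul_zero, add_zero] at h2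
    have h3 : ((x : GolayPt → ℤ) i - 1) * ((x : GolayPt → ℤ) i + 1) = 0 := by ring_nf; omega
    rcases mul_eq_zero.1 h3 with h4 | h4
    · left; linarith
    · right; linarith
  have hsq9 : (x : GolayPt → ℤ) i₀ = 3 ∨ (x : GolayPt → ℤ) i₀ = -3 := by
    have h2 := ht i₀
    rw [ht1] at h2
    have h3 : ((x : GolayPt → ℤ) i₀ - 3) * ((x : GolayPt → ℤ) i₀ + 3) = 0 := by ring_nf; omega
    rcases mul_eq_zero.1 h3 with h4 | h4
    · left; linarith
    · right; linarith
  have hpar : ∀ i, i ∈ support₂ (red fun i => z i - z j) ↔ (z i - z j) % 2 = 1 := fun i => mem_supp_red _ i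
  rcases sub_dodecad hD card_D hc hsub with h0 | h0
  · refine ⟨(false, i₀), ?_⟩
    funext i
    have h2 : ¬ (z i - z j) % 2 = 1 := by
      rw [← hpar, h0]; simp
    have h3 := ha i
    by_cases hi : i = i₀
    · subst hi
      simp only [cand, Bool.false_eq_true, false_and, if_false, if_true]
      rcases hsq9 with h4 | h4 <;> omega
    · simp only [cand, Bool.false_eq_true, false_and, if_false, if_neg hi, add_zero]
      rcases hsq1 i hi with h4 | h4 <;> omega
  · refine ⟨(true, i₀), ?_⟩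
    funext i
    have h3 := ha i
    by_cases hi : i = i₀
    · subst hi
      have h2 : (z i - z j) % 2 = 1 := by rw [← hpar, h0]; exact hi₀D
      simp only [cand, true_and, if_pos hi₀D, if_true]
      rcases hsq9 with h4 | h4 <;> omega
    · by_cases hiD : i ∈ D
      · have h2 : (z i - z j) % 2 = 1 := by rw [← hpar, h0]; exact hiD
        simp only [cand, true_and, if_pos hiD, if_neg hi, add_zero]
        rcases hsq1 i hi with h4 | h4 <;> omega
      · simp only [cand, true_and, if_neg hiD, if_neg hi, add_zero]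
        exact h1 i hiD

/-- the vectors -/
def SB : Set leechLattice := {x | sqNorm (x : GolayPt → ℤ) = 32 ∧ w0 • x = v2 - x}

theorem SB_sub : SB ⊆ (fun x : leechLattice => (x : GolayPt → ℤ)) ⁻¹' (Set.range cand) := by
  rintro x ⟨h1, h2⟩
  obtain ⟨p, hp⟩ := exists_cand h1 h2
  exact ⟨p, hp.symm⟩

theorem SB_finite : SB.Finite :=
  ((Set.finite_range cand).preimage (Subtype.val_injective.injOn)).subset SB_sub

theorem SB_card : SB.ncard ≤ 48 := by
  have h1 : SB.ncard ≤ (Set.range cand).ncard := by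
    rw [← Set.ncard_image_of_injective SB (f := fun x : leechLattice => (x : GolayPt → ℤ)) Subtype.val_injective]
    refine Set.ncard_le_ncard ?_ (Set.finite_range cand)
    rintro _ ⟨x, hx, rfl⟩
    exact SB_sub hx
  refine h1.trans ?_
  have h2 : (Set.range cand).ncard ≤ Nat.card (Bool × GolayPt) := by
    rw [← Set.image_univ, ← Set.ncard_univ]
    exact Set.ncard_image_le Set.finite_univ
  refine h2.trans (le_of_eq ?_)
  rw [Nat.card_eq_fintype_card]
  decide


/-! ### the stabilisers in `K` -/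

theorem finite_K : Finite K := by
  obtain ⟨e⟩ := SigZero.CoThree.exists_equiv
  have hf : Finite SporRec.Co3.Chain.G3 := CTwoTab.Co3.finite_G3
  exact Finite.of_equiv _ e.symm.toEquiv

/-- the elements commuting with `c` -/
abbrev CK (c : K) : Subgroup K := Subgroup.centralizer ({c} : Set K)

theorem K_smul_v2 (k : K) : k • v2 = v2 := k.2

theorem smul_sub' (g : Co0) (x y : leechLattice) : g • (x - y) = g • x - g • y := by
  have h : g • (x - y) + g • y = g • x := by
    change (g : Equiv.Perm leechLattice) (x - y) + (g : Equiv.Perm leechLattice) y = (g : Equiv.Perm leechLattice) x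
    rw [← g.2.1, sub_add_cancel]
  exact eq_sub_of_add_eq h

theorem K_smul_sub (k : K) (x y : leechLattice) : k • (x - y) = k • x - k • y := smul_sub' (k : Co0) x y

theorem K_norm (k : K) (x : leechLattice) :
    sqNorm ((k • x : leechLattice) : GolayPt → ℤ) = sqNorm (x : GolayPt → ℤ) := (k : Co0).2.2 x

/-- the point stabiliser in `C_K(c)` -/
def St (c : K) (u : leechLattice) : Subgroup K := CK c ⊓ MulAction.stabilizer K u

theorem mem_St {c : K} {u : leechLattice} {k : K} : k ∈ St c u ↔ k * c = c * k ∧ k • u = u := by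
  rw [St, Subgroup.mem_inf, Subgroup.mem_centralizer_singleton_iff, MulAction.mem_stabilizer_iff]

theorem card_CK_le (c : K) (u : leechLattice) (S : Set leechLattice) (hS : S.Finite)
    (h : ∀ k : K, k * c = c * k → k • u ∈ S) : Nat.card (CK c) ≤ S.ncard * Nat.card (St c u) := by
  have := finite_K
  have h1 := card_le_mul_stab (Γ := CK c) u S hS (fun g => h g (Subgroup.mem_centralizer_singleton_iff.1 g.2))
  refine h1.trans (Nat.mul_le_mul_left _ ?_)
  exact Nat.card_le_card_of_injective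
    (fun g : MulAction.stabilizer (CK c) u => (⟨(g : CK c), mem_St.2
      ⟨Subgroup.mem_centralizer_singleton_iff.1 (g : CK c).2, g.2⟩⟩ : St c u))
    (fun a b hab => Subtype.ext (Subtype.ext (congrArg (fun z : St c u => (z : K)) hab)))

/-- the 552 vectors -/
def SA : Set leechLattice := {v | sqNorm (v : GolayPt → ℤ) = 32 ∧ sqNorm ((v2 - v : leechLattice) : GolayPt → ℤ) = 32}

theorem SA_card : SA.ncard = 552 := S1578.result v2 norm_v2

theorem SA_finite : SA.Finite := Set.finite_of_ncard_ne_zero (by rw [SA_card]; norm_num)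

theorem bound_A {c : K} (hc : Nat.card (CK c) = 2903040) {u : leechLattice} (hu : u ∈ SA) : 965 ≤ Nat.card (St c u) := by
  have h1 := card_CK_le c u SA SA_finite (fun k _ => ⟨by rw [K_norm]; exact hu.1, by
    rw [← K_smul_v2 k, ← K_smul_sub, K_norm]
    exact hu.2⟩)
  rw [hc, SA_card] at h1
  omega

theorem card_CK_wK : 95040 ≤ Nat.card (CK wK) := by
  have := finite_K
  have h2 := Subgroup.card_mul_index proj.ker
  rw [Subgroup.index_ker, MonoidHom.range_eq_top.mpr proj_surj, Subgroup.card_top,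
    MTwelveType.SylowModel.card_M12] at h2
  change Nat.card proj.ker * 95040 = Nat.card (CK wK) at h2
  rw [← h2]
  exact Nat.le_mul_of_pos_left _ Nat.card_pos

theorem bound_B {u : leechLattice} (hu : sqNorm (u : GolayPt → ℤ) = 32) (hcu : wK • u = v2 - u) :
    965 ≤ Nat.card (St wK u) := by
  have h1 := card_CK_le wK u SB SB_finite (fun k hk => ⟨by rw [K_norm]; exact hu, by
    change wK • (k • u) = v2 - k • u
    rw [← mul_smul, ← hk, mul_smul, hcu, K_smul_sub, K_smul_v2]⟩)
  have h2 := card_CK_wK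
  have h3 := h1.trans (Nat.mul_le_mul_right _ SB_card)
  omega

theorem card_St_conj (h c : K) (u : leechLattice) : Nat.card (St (h * c * h⁻¹) (h • u)) = Nat.card (St c u) := by
  refine Nat.card_congr ⟨fun k => ⟨h⁻¹ * k * h, mem_St.2 ⟨?_, ?_⟩⟩, fun k => ⟨h * k * h⁻¹, mem_St.2 ⟨?_, ?_⟩⟩,
    fun k => ?_, fun k => ?_⟩
  · have h1 := (mem_St.1 k.2).1
    calc h⁻¹ * (k : K) * h * c = h⁻¹ * ((k : K) * (h * c * h⁻¹)) * h := by group
      _ = h⁻¹ * ((h * c * h⁻¹) * (k : K)) * h := by rw [h1]
      _ = c * (h⁻¹ * (k : K) * h) := by group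
  · have h1 := (mem_St.1 k.2).2
    rw [mul_smul, mul_smul, h1, inv_smul_smul]
  · have h1 := (mem_St.1 k.2).1
    calc h * (k : K) * h⁻¹ * (h * c * h⁻¹) = h * ((k : K) * c) * h⁻¹ := by group
      _ = h * (c * (k : K)) * h⁻¹ := by rw [h1]
      _ = (h * c * h⁻¹) * (h * (k : K) * h⁻¹) := by group
  · have h1 := (mem_St.1 k.2).2
    rw [mul_smul, mul_smul, inv_smul_smul, h1]
  · apply Subtype.ext
    show h * (h⁻¹ * (k : K) * h) * h⁻¹ = k
    group
  · apply Subtype.ext
    show h⁻¹ * (h * (k : K) * h⁻¹) * h = k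
    group

theorem card_centralizer_conj {G : Type*} [Group G] (g b : G) :
    Nat.card (Subgroup.centralizer ({g * b * g⁻¹} : Set G)) = Nat.card (Subgroup.centralizer ({b} : Set G)) := by
  refine Nat.card_congr ⟨fun y => ⟨g⁻¹ * y * g, ?_⟩, fun y => ⟨g * y * g⁻¹, ?_⟩, fun y => ?_, fun y => ?_⟩
  · have := Subgroup.mem_centralizer_singleton_iff.1 y.2
    rw [Subgroup.mem_centralizer_singleton_iff]
    calc g⁻¹ * (y : G) * g * b = g⁻¹ * ((y : G) * (g * b * g⁻¹)) * g := by group
      _ = g⁻¹ * ((g * b * g⁻¹) * (y : G)) * g := by rw [this]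
      _ = b * (g⁻¹ * (y : G) * g) := by group
  · have := Subgroup.mem_centralizer_singleton_iff.1 y.2
    rw [Subgroup.mem_centralizer_singleton_iff]
    calc g * (y : G) * g⁻¹ * (g * b * g⁻¹) = g * ((y : G) * b) * g⁻¹ := by group
      _ = g * (b * (y : G)) * g⁻¹ := by rw [this]
      _ = (g * b * g⁻¹) * (g * (y : G) * g⁻¹) := by group
  · apply Subtype.ext
    show g * (g⁻¹ * (y : G) * g) * g⁻¹ = y
    group
  · apply Subtype.ext
    show g⁻¹ * (g * (y : G) * g⁻¹) * g = y
    group

open SporRec.Co3.Chain in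
/-- **the bound in `K`** -/
theorem bound {c : K} (hc2 : c * c = 1) (hc1 : c ≠ 1) {u : leechLattice} (hu : sqNorm (u : GolayPt → ℤ) = 32)
    (hcu : c • u = v2 - u) : 965 ≤ Nat.card (St c u) := by
  obtain ⟨e⟩ := SigZero.CoThree.exists_equiv
  have hf : Finite G3 := CTwoTab.Co3.finite_G3
  have hfK := finite_K
  obtain ⟨π, N⟩ := KFacts.Co3D4.exists_NS_G3
  have hcent : ∀ k : K, Nat.card (Subgroup.centralizer ({e k} : Set G3)) = Nat.card (CK k) := by
    intro k
    refine Nat.card_congr ⟨fun y => ⟨e.symm y, ?_⟩, fun y => ⟨e y, ?_⟩, fun y => ?_, fun y => ?_⟩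
    · rw [Subgroup.mem_centralizer_singleton_iff]
      apply e.injective
      rw [map_mul, map_mul, e.apply_symm_apply]
      exact Subgroup.mem_centralizer_singleton_iff.1 y.2
    · rw [Subgroup.mem_centralizer_singleton_iff, ← map_mul, ← map_mul]
      exact congrArg e (Subgroup.mem_centralizer_singleton_iff.1 y.2)
    · exact Subtype.ext (e.apply_symm_apply _)
    · exact Subtype.ext (e.symm_apply_apply _)
  have hw2 : e wK * e wK = 1 := by rw [← map_mul, wK_sq, map_one]
  have hw1 : e wK ≠ 1 := fun h => wK_ne ((map_eq_one_iff e e.injective).1 h)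
  have hwc : Nat.card (Subgroup.centralizer ({e wK} : Set G3)) ≤ 2 * 95040 := by
    rw [hcent]; exact SigZero.CoThree.card_C_le
  have he2 : e c * e c = 1 := by rw [← map_mul, hc2, map_one]
  have he1 : e c ≠ 1 := fun h => hc1 ((map_eq_one_iff e e.injective).1 h)
  rcases SigZero.CoThree.classes hw2 hw1 hwc he2 he1 with ⟨g, hg⟩ | ⟨g, hg⟩
  · refine bound_A ?_ ⟨hu, ?_⟩
    · rw [← hcent, ← hg, card_centralizer_conj]
      exact CTwoTab.Co3.card_of_NS N
    · rw [← hcu, K_norm, hu]
  · have hg' : c = e.symm g * wK * (e.symm g)⁻¹ := by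
      apply e.injective
      rw [map_mul, map_mul, map_inv, e.apply_symm_apply, hg]
    obtain ⟨h, hh⟩ : ∃ h : K, h = e.symm g := ⟨_, rfl⟩
    rw [← hh] at hg'
    have h1 : u = h • (h⁻¹ • u) := (smul_inv_smul h u).symm
    rw [hg', h1, card_St_conj]
    refine bound_B (by rw [K_norm, hu]) ?_
    have h2 : wK = h⁻¹ * c * h := by rw [hg']; group
    rw [h2, mul_smul, mul_smul, smul_inv_smul, hcu, K_smul_sub, K_smul_v2]

/-! ### automorphisms of `McL` -/

open Cfsg.Spor Cfsg.Agent.H997.OutMcL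

theorem center_McL : Subgroup.center ↥McL = ⊥ := by
  obtain ⟨hfin, hsimple, hcard, ⟨L⟩⟩ := TypeM.FactsMcL.exists_mt_mcl
  rcases IsSimpleGroup.eq_bot_or_eq_top_of_normal (Subgroup.center McL) inferInstance with h | h
  · exact h
  · exfalso
    have hcomm : ∀ a b : McL, a * b = b * a := fun a b =>
      (Subgroup.mem_center_iff.1 (by rw [h]; trivial : b ∈ Subgroup.center McL) a)
    let _ : CommGroup McL := { (inferInstance : Group McL) with mul_comm := hcomm }
    have hp := IsSimpleGroup.prime_card (α := McL)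
    rw [hcard] at hp
    revert hp
    norm_num

/-- an element of `McL` commuting with all of `McL` is trivial -/
theorem eq_one_of_comm {c : Equiv.Perm leechLattice} (hc : c ∈ McL) (h : ∀ x ∈ McL, c * x = x * c) : c = 1 := by
  have hz : (⟨c, hc⟩ : McL) ∈ Subgroup.center McL := by
    rw [Subgroup.mem_center_iff]
    intro x
    exact Subtype.ext (h x x.2).symm
  rw [center_McL, Subgroup.mem_bot] at hz
  exact congrArg Subtype.val hz

/-- conjugation by an element interchanging `U` and `W` is outer -/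
theorem swap_outer {f : Equiv.Perm leechLattice} (hf : f ∈ Co0) (hV : f leechV = leechV) (hU : f leechU = W)
    (hW : f W = leechU) (hn : f ∈ Subgroup.normalizer (McL : Set (Equiv.Perm leechLattice))) (k : McL) :
    Subgroup.normalizerMonoidHom McL ⟨f, hn⟩ ≠ MulAut.conj k := by
  intro hk
  have hkm := mem_McL.1 k.2
  -- `c = k⁻¹ f`
  have hcV : ((k : Equiv.Perm leechLattice)⁻¹ * f) leechV = leechV := by
    rw [Equiv.Perm.mul_apply, hV, Equiv.Perm.inv_eq_iff_eq, hkm.2.1]
  have hkW : (k : Equiv.Perm leechLattice) W = W := by rw [map_W hkm.1 hkm.2.1, hkm.2.2]; rfl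
  have hcU : ((k : Equiv.Perm leechLattice)⁻¹ * f) leechU = W := by
    rw [Equiv.Perm.mul_apply, hU, Equiv.Perm.inv_eq_iff_eq, hkW]
  have hcW : ((k : Equiv.Perm leechLattice)⁻¹ * f) W = leechU := by
    rw [Equiv.Perm.mul_apply, hW, Equiv.Perm.inv_eq_iff_eq, hkm.2.2]
  have hc0 : (k : Equiv.Perm leechLattice)⁻¹ * f ∈ Co0 := mul_mem (inv_mem hkm.1) hf
  have hcen : ∀ x : Equiv.Perm leechLattice, x ∈ McL →
      ((k : Equiv.Perm leechLattice)⁻¹ * f) * x = x * ((k : Equiv.Perm leechLattice)⁻¹ * f) := by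
    intro x hx
    have h2 : f * x * f⁻¹ = k * x * (k : Equiv.Perm leechLattice)⁻¹ :=
      congrArg (fun β : MulAut McL => ((β ⟨x, hx⟩ : McL) : Equiv.Perm leechLattice)) hk
    calc (k : Equiv.Perm leechLattice)⁻¹ * f * x = (k : Equiv.Perm leechLattice)⁻¹ * (f * x * f⁻¹) * f := by group
      _ = (k : Equiv.Perm leechLattice)⁻¹ * (k * x * (k : Equiv.Perm leechLattice)⁻¹) * f := by rw [h2]
      _ = x * ((k : Equiv.Perm leechLattice)⁻¹ * f) := by group
  obtain ⟨c, hc⟩ : ∃ c : Equiv.Perm leechLattice, c = (k : Equiv.Perm leechLattice)⁻¹ * f := ⟨_, rfl⟩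
  rw [← hc] at hcV hcU hcW hc0 hcen
  have hcc : c * c ∈ McL := mem_McL.2 ⟨mul_mem hc0 hc0, by rw [Equiv.Perm.mul_apply, hcV, hcV],
    by rw [Equiv.Perm.mul_apply, hcU, hcW]⟩
  have hcc1 : c * c = 1 := by
    refine eq_one_of_comm hcc fun x hx => ?_
    rw [mul_assoc, hcen x hx, ← mul_assoc, hcen x hx, mul_assoc]
  refine no_central (c := ⟨⟨c, hc0⟩, hcV⟩) ?_ ?_ hcen
  · intro h
    have h1 : c = 1 := congrArg (fun z : Cfsg.Agent.SporRec.Co3.Chain.G3 => ((z : Co0) : Equiv.Perm leechLattice)) h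
    rw [h1] at hcU
    exact W_ne hcU.symm
  · apply Subtype.ext
    apply Subtype.ext
    exact hcc1

/-- outer automorphisms are induced by elements interchanging `U` and `W` -/
theorem exists_conj {α : MulAut McL} (hα : ¬ ∃ s, α = MulAut.conj s) :
    ∃ c : Equiv.Perm leechLattice, c ∈ Co0 ∧ c leechV = leechV ∧ c leechU = W ∧
      ∀ x : McL, ((α x : McL) : Equiv.Perm leechLattice) = c * x * c⁻¹ := by
  obtain ⟨hfin, hsimple, hcard, ⟨L⟩⟩ := TypeM.FactsMcL.exists_mt_mcl
  obtain ⟨f, hf, hV, hU, hW⟩ := H997.OutMcL.exists_swap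
  have hn := mem_normalizer hf hV hU hW
  have hG : TypeM.FactsAut.Gen L := TypeM.FactsAut.gen L (Or.inl ⟨rfl, hcard⟩)
  have hβ := swap_outer hf hV hU hW hn
  obtain ⟨m, hm⟩ := TypeM.OuterInst.mul_mem_range L (Or.inl rfl) hG
    (φ := α) (ψ := Subgroup.normalizerMonoidHom McL ⟨f, hn⟩) (fun ⟨s, hs⟩ => hα ⟨s, hs.symm⟩)
    (fun ⟨s, hs⟩ => hβ s hs.symm)
  have hmm := mem_McL.1 m.2
  have hV' : f⁻¹ leechV = leechV := by rw [Equiv.Perm.inv_eq_iff_eq, hV]
  have hU' : f⁻¹ leechU = W := by rw [Equiv.Perm.inv_eq_iff_eq, hW]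
  have hmW : (m : Equiv.Perm leechLattice) W = W := by rw [map_W hmm.1 hmm.2.1, hmm.2.2]; rfl
  refine ⟨m * f⁻¹, mul_mem hmm.1 (inv_mem hf), ?_, ?_, ?_⟩
  · rw [Equiv.Perm.mul_apply, hV', hmm.2.1]
  · rw [Equiv.Perm.mul_apply, hU', hmW]
  · intro x
    have hx : f⁻¹ * (x : Equiv.Perm leechLattice) * f⁻¹⁻¹ ∈ McL :=
      (Subgroup.mem_normalizer_iff.1 (inv_mem hn) x).1 x.2
    have h1 := congrArg (fun β : MulAut McL => ((β ⟨_, hx⟩ : McL) : Equiv.Perm leechLattice)) hm
    simp only [MulAut.mul_apply, MulAut.conj_apply, Subgroup.coe_mul, InvMemClass.coe_inv] at h1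
    have h2 : Subgroup.normalizerMonoidHom McL ⟨f, hn⟩ ⟨_, hx⟩ = x := by
      apply Subtype.ext
      show f * (f⁻¹ * (x : Equiv.Perm leechLattice) * f⁻¹⁻¹) * f⁻¹ = x
      group
    rw [h2] at h1
    rw [← h1]
    group

theorem cube_mcl_model : CubeBound ↥McL := by
  intro α hα
  have hsq : α * α = 1 := mul_self_of_order hα
  have hα1 : α ≠ 1 := by
    rintro rfl
    rw [orderOf_one] at hα
    omega
  obtain ⟨hfin, hsimple, hcard, ⟨L⟩⟩ := TypeM.FactsMcL.exists_mt_mcl
  suffices h : 965 ≤ Nat.card {t : McL // α t = t} by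
    rw [hcard]
    calc 898128000 < 965 ^ 3 := by norm_num
      _ ≤ _ := Nat.pow_le_pow_left h 3
  by_cases hin : ∃ s, α = MulAut.conj s
  · obtain ⟨s, rfl⟩ := hin
    have hs2 : s * s = 1 := by
      have hz : s * s ∈ Subgroup.center McL := by
        rw [Subgroup.mem_center_iff]
        intro x
        have h1 := congrArg (fun a : MulAut McL => a x) hsq
        rw [← map_mul] at h1
        simp only [MulAut.conj_apply, MulAut.one_apply] at h1
        exact (mul_inv_eq_iff_eq_mul.1 h1).symm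
      rw [center_McL, Subgroup.mem_bot] at hz
      exact hz
    have hs1 : s ≠ 1 := by
      rintro rfl
      exact hα1 (map_one _)
    obtain ⟨g, hg⟩ := L.one s hs2 hs1
    have h1 : Nat.card {t : McL // MulAut.conj s t = t} = Nat.card (Subgroup.centralizer ({s} : Set McL)) := by
      refine Nat.card_congr (Equiv.subtypeEquivRight fun t => ?_)
      rw [Subgroup.mem_centralizer_singleton_iff, MulAut.conj_apply, mul_inv_eq_iff_eq_mul]
      exact eq_comm
    rw [h1, ← hg, card_centralizer_conj, TypeM.FactsAut.card_centralizer L (by norm_num)]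
    decide
  · obtain ⟨c, hc0, hcV, hcU, hc⟩ := exists_conj hin
    have hcW : c W = leechU := by rw [map_W hc0 hcV, hcU, W]; abel
    have hcc : c * c = 1 := by
      refine eq_one_of_comm (mem_McL.2 ⟨mul_mem hc0 hc0, by rw [Equiv.Perm.mul_apply, hcV, hcV],
        by rw [Equiv.Perm.mul_apply, hcU, hcW]⟩) fun x hx => ?_
      have h1 := congrArg (fun a : MulAut McL => ((a ⟨x, hx⟩ : McL) : Equiv.Perm leechLattice)) hsq
      simp only [MulAut.mul_apply, MulAut.one_apply, hc] at h1
      calc c * c * x = (c * (c * x * c⁻¹) * c⁻¹) * (c * c) := by group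
        _ = x * (c * c) := by rw [h1]
    -- the model `K`
    have hnV : sqNorm ((-leechV : leechLattice) : GolayPt → ℤ) = 48 := by
      rw [coe_negV]; decide +kernel
    obtain ⟨g, hg⟩ := S0401.result v2 (-leechV) norm_v2 hnV
    have hg' : (g : Equiv.Perm leechLattice) v2 = -leechV := hg
    let C : Co0 := ⟨c, hc0⟩
    have hCg : (g⁻¹ * C * g) • v2 = v2 := by
      rw [mul_smul, mul_smul, hg, inv_smul_eq_iff, hg]
      show c (-leechV) = -leechV
      rw [map_neg' hc0, hcV]
    let c' : K := ⟨g⁻¹ * C * g, hCg⟩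
    have hc'2 : c' * c' = 1 := by
      apply Subtype.ext
      show g⁻¹ * C * g * (g⁻¹ * C * g) = 1
      have : C * C = 1 := Subtype.ext hcc
      calc g⁻¹ * C * g * (g⁻¹ * C * g) = g⁻¹ * (C * C) * g := by group
        _ = 1 := by rw [this]; group
    have hc'1 : c' ≠ 1 := by
      intro h
      have h1 : g⁻¹ * C * g = 1 := congrArg Subtype.val h
      have h2 : C = 1 := by
        calc C = g * (g⁻¹ * C * g) * g⁻¹ := by group
          _ = 1 := by rw [h1]; group
      have h3 : c = 1 := congrArg Subtype.val h2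
      rw [h3] at hcU
      exact W_ne hcU.symm
    have hu : sqNorm ((g⁻¹ • leechU : leechLattice) : GolayPt → ℤ) = 32 := by
      have h1 : sqNorm ((g⁻¹ • leechU : leechLattice) : GolayPt → ℤ) = sqNorm (leechU : GolayPt → ℤ) := g⁻¹.2.2 leechU
      rw [h1, coe_U]; decide +kernel
    have hcu : c' • (g⁻¹ • leechU) = v2 - g⁻¹ • leechU := by
      show (g⁻¹ * C * g) • (g⁻¹ • leechU) = _
      rw [mul_smul, smul_inv_smul, mul_smul]
      have h1 : C • leechU = -leechV - leechU := hcU
      have h2 : v2 = g⁻¹ • (-leechV) := by rw [← hg, inv_smul_smul]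
      rw [h1, h2, smul_sub', ← h2]
    refine (bound hc'2 hc'1 hu hcu).trans ?_
    refine Nat.card_le_card_of_injective (fun k : St c' (g⁻¹ • leechU) =>
      (⟨⟨((g * (k : K) * g⁻¹ : Co0) : Equiv.Perm leechLattice), ?_⟩, ?_⟩ : {t : McL // α t = t})) ?_
    · refine mem_McL.2 ⟨(g * (k : K) * g⁻¹ : Co0).2, ?_, ?_⟩
      · have h1 : (g * (k : K) * g⁻¹ : Co0) • (-leechV) = -leechV := by
          rw [mul_smul, mul_smul]
          have h2 : g⁻¹ • (-leechV) = v2 := by rw [← hg, inv_smul_smul]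
          have h3 : ((k : K) : Co0) • v2 = v2 := (k : K).2
          rw [h2, h3, hg]
        have h2 : ((g * (k : K) * g⁻¹ : Co0) : Equiv.Perm leechLattice) (-leechV) = -leechV := h1
        rw [map_neg' (g * (k : K) * g⁻¹ : Co0).2] at h2
        exact neg_injective h2
      · show (g * (k : K) * g⁻¹ : Co0) • leechU = leechU
        have h3 : ((k : K) : Co0) • (g⁻¹ • leechU) = g⁻¹ • leechU := (mem_St.1 k.2).2
        rw [mul_smul, mul_smul, h3, smul_inv_smul]
    · apply Subtype.ext
      rw [hc]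
      have h1 : ((k : K) : Co0) * (g⁻¹ * C * g) = g⁻¹ * C * g * ((k : K) : Co0) :=
        congrArg Subtype.val (mem_St.1 k.2).1
      have h2 : C * (g * (k : K) * g⁻¹) * C⁻¹ = g * (k : K) * g⁻¹ := by
        calc C * (g * (k : K) * g⁻¹) * C⁻¹ = g * ((g⁻¹ * C * g) * ((k : K) : Co0)) * g⁻¹ * C⁻¹ := by group
          _ = g * (((k : K) : Co0) * (g⁻¹ * C * g)) * g⁻¹ * C⁻¹ := by rw [h1]
          _ = _ := by group
      exact congrArg (fun z : Co0 => (z : Equiv.Perm leechLattice)) h2
    · intro a b hab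
      have h1 : ((g * (a : K) * g⁻¹ : Co0) : Equiv.Perm leechLattice) = ((g * (b : K) * g⁻¹ : Co0) : Equiv.Perm leechLattice) :=
        congrArg (fun z : {t : McL // α t = t} => ((z : McL) : Equiv.Perm leechLattice)) hab
      have h2 : (g * (a : K) * g⁻¹ : Co0) = g * (b : K) * g⁻¹ := Subtype.ext h1
      exact Subtype.ext (Subtype.ext (mul_left_cancel (mul_right_cancel h2)))

theorem cube_McL {G : Type*} [Group G] (h : Cfsg.Spor.IsoMcL G) : CubeBound G := by
  obtain ⟨e⟩ := h
  exact cube_mcl_model.congr e.symm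

end Cfsg.Agent.H692.CubeMcL
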