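import Cfsg.Agent.H383.Cube.Basic
import Cfsg.Agent.KFacts.SuzInvol
import Cfsg.Agent.SuzThree.CentCard
import Cfsg.Agent.SuzThree.Transport
import Cfsg.Agent.CTwoTab.Suz

/-!
# `CubeBound` for the sporadic Suzuki group (helper692, S5721)

Inner involutions: centralizers of orders 3317760 and 161280; outer involutory automorphisms are conjugate to
`ρ` (centralizer `J₂:2`, here: order at least `1050 · 24`) or `σ` (centralizer `M₁₂:2`, here: order at least `990 · 24`).
-/

set_option autoImplicit false
set_option maxRecDepth 100000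
set_option exponentiation.threshold 4000

namespace Cfsg.Agent.H692.CubeSuz

open Cfsg.Spor (Suz)
open Cfsg.Agent.H383.Cube
open Cfsg.Agent.KFacts.SuzRho Cfsg.Agent.SporadicRecognition.SuzOrder Cfsg.Agent.SporadicRecognition.SuzPhi
open Cfsg.Agent.Lib.PermNet Cfsg.Agent.Lib.PermNetOrbit
open Cfsg.Agent.KFacts.SuzInvol Cfsg.Agent.SuzThree.Basic

/-- the permutation representation restricted to the fixed points of `α` -/
noncomputable def ψ (α : MulAut Suz) : ↥(fix α) →* Equiv.Perm ℕ := φ.comp (fix α).subtype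

theorem img (α : MulAut Suz) (ws : List (List Suz.Gen)) (h : ∀ w ∈ ws, α (el w) = el w) :
    ∀ w ∈ ws.map wd, ∃ g : ↥(fix α), ψ α g = wperm w := by
  intro w hw
  obtain ⟨u, hu, rfl⟩ := List.mem_map.1 hw
  exact ⟨⟨el u, h u hu⟩, φ_el u⟩

theorem wsok' (ws : List (List Suz.Gen)) : WsOk (2 ^ 11) (ws.map wd) := by
  intro w hw
  obtain ⟨u, -, rfl⟩ := List.mem_map.1 hw
  exact wd_ok u

def J1 : List (List Suz.Gen) := [[.a], [.b], [.c], [.d], [.e]]
def J2 : List (List Suz.Gen) := [[.e], [.b, .c], [.a, .b, .a]]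
def M1 : List (List Suz.Gen) := [[.a], [.b], [.e, .d, .c, .d, .e], [.d], [.c, .d, .c, .d, .f, .g]]
def M2 : List (List Suz.Gen) := [[.d], [.b, .e, .d, .c, .d, .e], [.a, .b, .a]]


theorem fixJ : ∀ w ∈ J1, rho (el w) = el w := by
  intro w hw
  simp only [J1, List.mem_cons, List.not_mem_nil, or_false] at hw
  rcases hw with rfl | rfl | rfl | rfl | rfl <;> exact rho_el _

theorem fixJ' : ∀ w ∈ J2, rho (el w) = el w := by
  intro w hw
  simp only [J2, List.mem_cons, List.not_mem_nil, or_false] at hw
  rcases hw with rfl | rfl | rfl <;> exact rho_el _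

theorem fixM : ∀ w ∈ M1, sigma (el w) = el w := by
  intro w hw
  rw [sigma_el]
  simp only [M1, List.mem_cons, List.not_mem_nil, or_false] at hw
  rcases hw with rfl | rfl | rfl | rfl | rfl
  · exact eq_of_reps (Rep.el _) (Rep.el _) (by decide +kernel)
  · exact eq_of_reps (Rep.el _) (Rep.el _) (by decide +kernel)
  · exact eq_of_reps (Rep.el _) (Rep.el _) (by decide +kernel)
  · exact eq_of_reps (Rep.el _) (Rep.el _) (by decide +kernel)
  · exact eq_of_reps (Rep.el _) (Rep.el _) (by decide +kernel)

theorem fixM' : ∀ w ∈ M2, sigma (el w) = el w := by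
  intro w hw
  rw [sigma_el]
  simp only [M2, List.mem_cons, List.not_mem_nil, or_false] at hw
  rcases hw with rfl | rfl | rfl
  · exact eq_of_reps (Rep.el _) (Rep.el _) (by decide +kernel)
  · exact eq_of_reps (Rep.el _) (Rep.el _) (by decide +kernel)
  · exact eq_of_reps (Rep.el _) (Rep.el _) (by decide +kernel)

theorem rho1 : 1050 * Nat.card (stabL (ψ rho) [21]) ≤ Nat.card (stabL (ψ rho) []) :=
  stabL_step_of_check (ψ rho) (k := 11) [] 21 1050 8 (wsok' J1) (img rho J1 fixJ) (by decide +kernel)
    (by decide +kernel) (by decide +kernel)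

theorem rho2 : 24 * Nat.card (stabL (ψ rho) [14, 21]) ≤ Nat.card (stabL (ψ rho) [21]) :=
  stabL_step_of_check (ψ rho) (k := 11) [21] 14 24 8 (wsok' J2) (img rho J2 fixJ') (by decide +kernel)
    (by decide +kernel) (by decide +kernel)

theorem sig1 : 990 * Nat.card (stabL (ψ sigma) [63]) ≤ Nat.card (stabL (ψ sigma) []) :=
  stabL_step_of_check (ψ sigma) (k := 11) [] 63 990 8 (wsok' M1) (img sigma M1 fixM) (by decide +kernel)
    (by decide +kernel) (by decide +kernel)

theorem sig2 : 24 * Nat.card (stabL (ψ sigma) [28, 63]) ≤ Nat.card (stabL (ψ sigma) [63]) :=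
  stabL_step_of_check (ψ sigma) (k := 11) [63] 28 24 8 (wsok' M2) (img sigma M2 fixM') (by decide +kernel)
    (by decide +kernel) (by decide +kernel)

theorem card_rho : 7654 ≤ Nat.card {t : Suz // rho t = t} := by
  have h1 := rho1
  have h2 := rho2
  have h3 : 0 < Nat.card (stabL (ψ rho) [14, 21]) := Nat.card_pos
  have h4 : Nat.card (stabL (ψ rho) []) ≤ Nat.card ↥(fix rho) :=
    Nat.card_le_card_of_injective _ Subtype.val_injective
  rw [card_fix] at h4
  omega

theorem card_sigma : 7654 ≤ Nat.card {t : Suz // sigma t = t} := by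
  have h1 := sig1
  have h2 := sig2
  have h3 : 0 < Nat.card (stabL (ψ sigma) [28, 63]) := Nat.card_pos
  have h4 : Nat.card (stabL (ψ sigma) []) ≤ Nat.card ↥(fix sigma) :=
    Nat.card_le_card_of_injective _ Subtype.val_injective
  rw [card_fix] at h4
  omega

/-- conjugate automorphisms have equally many fixed points -/
theorem card_conj {G : Type*} [Group G] (α β : MulAut G) :
    Nat.card {t : G // (β * α * β⁻¹) t = t} = Nat.card {t : G // α t = t} := by
  refine Nat.card_congr (β.symm.toEquiv.subtypeEquiv fun a => ?_)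
  change β (α (β.symm a)) = a ↔ α (β.symm a) = β.symm a
  constructor
  · intro h
    apply β.injective
    rw [h, MulEquiv.apply_symm_apply]
  · intro h
    rw [h, MulEquiv.apply_symm_apply]

/-- fixed points of inner automorphisms -/
theorem card_inner {G : Type*} [Group G] (s : G) :
    Nat.card {t : G // MulAut.conj s t = t} = Nat.card ↥(Subgroup.centralizer ({s} : Set G)) := by
  refine Nat.card_congr (Equiv.subtypeEquivRight fun t => ?_)
  rw [Subgroup.mem_centralizer_singleton_iff, MulAut.conj_apply, mul_inv_eq_iff_eq_mul]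
  exact eq_comm

theorem card_of_isConj {s t : Suz} (h : IsConj s t) : Nat.card ↥(Subgroup.centralizer ({t} : Set Suz)) =
    Nat.card ↥(Subgroup.centralizer ({s} : Set Suz)) := by
  obtain ⟨c, rfl⟩ := isConj_iff.1 h
  have h1 := CTwoTab.map_centralizer_singleton (MulAut.conj c) s
  rw [show c * s * c⁻¹ = MulAut.conj c s from rfl, ← h1]
  exact Subgroup.card_map_of_injective (MulAut.conj c).injective

theorem cube_suz_model : CubeBound Suz := by
  intro α hα
  have hsq : α * α = 1 := mul_self_of_order hα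
  have hα1 : α ≠ 1 := by
    rintro rfl
    rw [orderOf_one] at hα
    omega
  suffices h : 7654 ≤ Nat.card {t : Suz // α t = t} by
    rw [card_Suz]
    calc 448345497600 < 7654 ^ 3 := by norm_num
      _ ≤ _ := Nat.pow_le_pow_left h 3
  by_cases hin : ∃ s, α = MulAut.conj s
  · obtain ⟨s, rfl⟩ := hin
    have hs2 : s * s = 1 := by
      apply conj_eq_one
      rw [map_mul, hsq]
    have hs1 : s ≠ 1 := by
      rintro rfl
      exact hα1 (map_one _)
    rw [card_inner]
    rcases CTwoTab.Suz.classes hs2 hs1 with hc | hc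
    · rw [card_of_isConj hc]
      have h1 : Nat.card ↥(Subgroup.centralizer ({Cfsg.Agent.SuzThree.CentA.z0} : Set Suz)) = 3317760 :=
        SuzThree.CentCard.card_C1
      rw [h1]
      norm_num
    · rw [card_of_isConj hc]
      have h1 : Nat.card ↥(Subgroup.centralizer ({KFacts.SuzLFour.e0} : Set Suz)) = 161280 := KFacts.SuzTwoB.card_CE
      rw [h1]
      norm_num
  · refine outer_ind (Q := fun α => 7654 ≤ Nat.card {t : Suz // α t = t}) ⟨?_, ?_⟩ hsq
      (fun ⟨s, hs⟩ => hin ⟨s, hs.symm⟩)
    · intro al g h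
      rwa [card_conj]
    · intro s
      cases s
      · exact card_rho
      · exact card_sigma

theorem cube_Suz {G : Type*} [Group G] (h : Cfsg.Spor.IsoSuz G) : CubeBound G := by
  obtain ⟨e⟩ := h
  exact cube_suz_model.congr e.symm

end Cfsg.Agent.H692.CubeSuz
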