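import Cfsg.Agent.H383.Cube.Basic
import Cfsg.Agent.KFacts.HS.Base
import Cfsg.Agent.HN.Classes

/-!
# `CubeBound` for the Higman–Sims group (helper692, S5721)

`Aut(HS) = H0 / ⟨τ⟩`, `H0 = 2.HS.2`; an automorphism of order two is induced by a conjugate of `a`, `x`, `z` or `d`
(classes 2A, 2B, 2C, 2D); in each case words for at least 354 fixed elements are given (orbits on the 100 points).
-/

set_option autoImplicit false
set_option maxRecDepth 100000

namespace Cfsg.Agent.H692.CubeHS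

open Cfsg.Agent.HN Cfsg.Agent.HN.Pres Cfsg.Agent.HN.HS100 Cfsg.Agent.HN.P1408 Cfsg.Agent.HN.H0Basic
open Cfsg.Agent.HN.Classes (t1 φ_hw_apply)
open Cfsg.Agent.KFacts.HS Cfsg.Agent.H383.Cube Equiv

/-- equality modulo `τ` -/
def eqt (u v : List ℕ) : Bool := eqw u v || eqw u (v ++ [0, 0])

theorem eqt_spec {u v : List ℕ} (h : eqt u v = true) : φ (hw u) = φ (hw v) := by
  rw [φ_eq_iff]
  unfold eqt at h
  rw [Bool.or_eq_true] at h
  rcases h with h | h
  · exact Or.inl (hw_eq h)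
  · right
    have := hw_eq h
    rwa [hw_append, hw_τ] at this

/-- words in the generators -/
def cat (gens : List (List ℕ)) (w : List ℕ) : List ℕ := w.flatMap fun i => gens.getD i []

/-- the elements of `K` commuting with `u` modulo `τ` -/
def Cm (u : H0) : Subgroup H0 := (Subgroup.centralizer {φ u}).comap φ ⊓ K

theorem mem_Cm {u x : H0} : x ∈ Cm u ↔ φ x * φ u = φ u * φ x ∧ x ∈ K := by
  rw [Cm, Subgroup.mem_inf, Subgroup.mem_comap, Subgroup.mem_centralizer_singleton_iff]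

/-- the check of the generators -/
def ok (uw : List ℕ) (gens : List (List ℕ)) : Bool :=
  gens.all fun g => okw g && (!par g && eqt (g ++ uw) (uw ++ g))

theorem mem_of_ok {uw : List ℕ} {gens : List (List ℕ)} (h : ok uw gens = true) (i : ℕ) :
    hw (gens.getD i []) ∈ Cm (hw uw) := by
  rw [ok, List.all_eq_true] at h
  by_cases hi : i < gens.length
  · have h1 := h (gens.getD i []) (by rw [List.getD_eq_getElem _ _ hi]; exact List.getElem_mem hi)
    rw [Bool.and_eq_true, Bool.and_eq_true, Bool.not_eq_true'] at h1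
    refine mem_Cm.2 ⟨?_, mem_K_of_par h1.1 h1.2.1⟩
    rw [← map_mul, ← map_mul, ← hw_append, ← hw_append]
    exact eqt_spec h1.2.2
  · rw [List.getD_eq_default _ _ (by omega)]
    rw [show hw ([] : List ℕ) = 1 from rfl]
    exact one_mem _

theorem cat_mem {uw : List ℕ} {gens : List (List ℕ)} (h : ok uw gens = true) (w : List ℕ) :
    hw (cat gens w) ∈ Cm (hw uw) := by
  induction w with
  | nil => exact one_mem _
  | cons i w ih =>
    rw [show cat gens (i :: w) = gens.getD i [] ++ cat gens w from rfl, hw_append]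
    exact mul_mem (mem_of_ok h i) ih

/-- the image of the point `p` -/
def im (gens : List (List ℕ)) (p : ℕ) (w : List ℕ) : ℕ := t1 (cat gens w) p

section

variable {L : Type*} [Group L] (D : KFacts.HS.Mod L)

theorem pi_eq (k l : K) : D.π k = D.π l ↔ φ (k : H0) = φ (l : H0) := by
  rw [D.eq_iff, φ_eq_iff]

theorem fix_of_mem {u x : H0} (hx : x ∈ Cm u) : D.au u (D.π ⟨x, (mem_Cm.1 hx).2⟩) = D.π ⟨x, (mem_Cm.1 hx).2⟩ := by
  rw [D.au_π, pi_eq]
  change φ (u * x * u⁻¹) = φ x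
  rw [map_mul, map_mul, map_inv, ← (mem_Cm.1 hx).1]
  group

/-- **the bound** -/
theorem bound [Finite L] {uw : List ℕ} {gens : List (List ℕ)} (h : ok uw gens = true) (p q : ℕ) (hp : p < 100)
    (hq : q < 100) (A B : List (List ℕ)) (hA : (A.map (im gens p)).Nodup) (hB : B.all (fun w => im gens p w == p) = true)
    (hB' : (B.map (im gens q)).Nodup) : A.length * B.length ≤ Nat.card {t : L // D.au (hw uw) t = t} := by
  let e : List ℕ → H0 := fun w => hw (cat gens w)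
  have he : ∀ w, e w ∈ Cm (hw uw) := fun w => cat_mem h w
  have himg : ∀ (w : List ℕ) (i : Fin 100), ((φ (e w) i : Fin 100) : ℕ) = im gens i w := fun w i => φ_hw_apply _ i
  have hfin : Nat.card (Fin A.length × Fin B.length) = A.length * B.length := by
    rw [Nat.card_prod, Nat.card_fin, Nat.card_fin]
  rw [← hfin]
  refine Nat.card_le_card_of_injective (fun ij : Fin A.length × Fin B.length =>
    (⟨D.π ⟨e (A.get ij.1) * e (B.get ij.2), (mem_Cm.1 (mul_mem (he _) (he _))).2⟩,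
      fix_of_mem D (mul_mem (he _) (he _))⟩ : {t : L // D.au (hw uw) t = t})) ?_
  rintro ⟨i, j⟩ ⟨i', j'⟩ hij
  have h1 : φ (e (A.get i) * e (B.get j)) = φ (e (A.get i') * e (B.get j')) :=
    (pi_eq D _ _).1 (congrArg (fun z : {t : L // D.au (hw uw) t = t} => (z : L)) hij)
  rw [map_mul, map_mul] at h1
  have hBp : ∀ j : Fin B.length, φ (e (B.get j)) ⟨p, hp⟩ = ⟨p, hp⟩ := by
    intro j
    apply Fin.ext
    rw [himg]
    have h2 := List.all_eq_true.1 hB (B.get j) (List.get_mem _ _)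
    exact beq_iff_eq.1 h2
  have h2 : φ (e (A.get i)) ⟨p, hp⟩ = φ (e (A.get i')) ⟨p, hp⟩ := by
    have h3 := congrArg (fun s : Perm (Fin 100) => s ⟨p, hp⟩) h1
    simp only [Perm.mul_apply, hBp] at h3
    exact h3
  have h3 : im gens p (A.get i) = im gens p (A.get i') := by
    rw [← himg _ ⟨p, hp⟩, ← himg _ ⟨p, hp⟩, h2]
  have hii : i = i' := by
    have h4 := List.nodup_iff_injective_get.1 hA
    have h5 : (⟨i, by rw [List.length_map]; exact i.2⟩ : Fin (A.map (im gens p)).length) =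
        ⟨i', by rw [List.length_map]; exact i'.2⟩ := by
      apply h4
      simp only [List.get_eq_getElem, List.getElem_map]
      exact h3
    exact Fin.ext (Fin.mk.inj h5)
  subst hii
  have h6 : φ (e (B.get j)) = φ (e (B.get j')) := mul_left_cancel h1
  have h7 : im gens q (B.get j) = im gens q (B.get j') := by
    rw [← himg _ ⟨q, hq⟩, ← himg _ ⟨q, hq⟩, h6]
  have hjj : j = j' := by
    have h4 := List.nodup_iff_injective_get.1 hB'
    have h5 : (⟨j, by rw [List.length_map]; exact j.2⟩ : Fin (B.map (im gens q)).length) =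
        ⟨j', by rw [List.length_map]; exact j'.2⟩ := by
      apply h4
      simp only [List.get_eq_getElem, List.getElem_map]
      exact h7
    exact Fin.ext (Fin.mk.inj h5)
  rw [hjj]

end

/-- generators for `a` -/
def g_a : List (List ℕ) := [[2, 2, 2, 0, 3, 3, 0, 2, 2, 2, 1, 2, 2, 1], [2, 2, 0, 4, 2, 2, 2, 4, 1, 2], [2, 2], [2, 2, 2, 1, 2, 2, 1, 2, 2, 2, 0, 3, 3, 0]]

/-- first transversal -/
def A_a : List (List ℕ) := [[], [0], [1], [2], [3], [1, 0], [3, 0], [0, 1], [1, 2], [3, 2], [1, 3], [2, 1, 0], [0, 1, 2], [3, 1, 2], [1, 3, 2], [2, 1, 3]]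

/-- second transversal -/
def B_a : List (List ℕ) := [[], [2, 1], [0, 2, 0], [1, 3, 1], [2, 3, 1], [1, 2, 2], [0, 2, 2, 0], [1, 2, 0, 2], [2, 2, 0, 2], [1, 3, 2, 2], [2, 3, 2, 2], [2, 1, 0, 2, 0], [0, 2, 0, 2, 1], [1, 3, 1, 2, 1], [2, 1, 2, 3, 1], [1, 3, 2, 0, 2], [3, 2, 1, 0, 1, 0], [1, 3, 1, 0, 2, 0], [1, 2, 2, 0, 2, 0], [2, 1, 0, 2, 2, 0], [3, 2, 0, 2, 0, 1], [0, 2, 2, 0, 2, 1], [1, 2, 0, 2, 2, 1]]

theorem bd_a {L : Type*} [Group L] [Finite L] (D : KFacts.HS.Mod L) : 368 ≤ Nat.card {t : L // D.au (hw [2, 2, 2]) t = t} :=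
  bound D (gens := g_a) (by decide +kernel) 11 1 (by norm_num) (by norm_num) A_a B_a (by decide +kernel)
    (by decide +kernel) (by decide +kernel)

/-- generators for `x` -/
def g_x : List (List ℕ) := [[0, 3, 4, 2, 4, 1, 4, 3, 4, 2, 1, 3, 4, 2, 4], [0, 2, 0, 2, 0, 3, 1, 3, 0, 2, 0, 2, 0, 3, 1, 3], [1, 2, 1, 3, 1, 2], [3, 1, 2, 1, 3]]

/-- first transversal -/
def A_x : List (List ℕ) := [[], [0], [1], [2], [3], [3, 0], [0, 1], [2, 1], [3, 1], [0, 2], [2, 2], [3, 2], [0, 3], [1, 3], [3, 3], [0, 3, 0], [3, 3, 0], [3, 0, 1], [0, 2, 1], [3, 2, 1], [0, 3, 1], [3, 3, 1], [1, 2, 2], [1, 0, 3], [0, 1, 3], [3, 1, 3], [3, 3, 0, 1], [3, 0, 2, 1], [1, 0, 3, 1], [3, 1, 2, 2]]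

/-- second transversal -/
def B_x : List (List ℕ) := [[], [0, 1, 0], [3, 0, 2], [2, 0, 3], [2, 0, 2, 0], [2, 0, 2, 1, 0], [3, 2, 2, 2, 0], [3, 0, 1, 2, 1], [3, 1, 3, 3, 1], [1, 3, 3, 3, 1], [1, 3, 1, 0, 2], [0, 3, 3, 3, 2]]

theorem bd_x {L : Type*} [Group L] [Finite L] (D : KFacts.HS.Mod L) : 360 ≤ Nat.card {t : L // D.au (hw [0]) t = t} :=
  bound D (gens := g_x) (by decide +kernel) 0 8 (by norm_num) (by norm_num) A_x B_x (by decide +kernel)
    (by decide +kernel) (by decide +kernel)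

/-- generators for `z` -/
def g_z : List (List ℕ) := [[4, 3, 1, 4, 2, 4, 3, 4, 0, 2], [3, 3, 4, 2, 2, 4, 3, 3], [3, 1, 4, 0, 2, 4, 3, 1], [4, 2, 1, 3, 3, 4, 2, 2, 0, 3]]

/-- first transversal -/
def A_z : List (List ℕ) := [[], [0], [1], [2], [3], [1, 0], [2, 0], [1, 1], [2, 1], [3, 1], [1, 2], [2, 1, 0], [3, 1, 0], [1, 2, 0], [2, 2, 0], [0, 1, 1], [1, 1, 1], [2, 1, 1], [3, 1, 1], [1, 2, 1], [2, 2, 1], [3, 2, 1], [2, 3, 1], [3, 1, 2], [2, 2, 1, 0], [1, 0, 1, 1], [2, 0, 1, 1], [1, 2, 1, 1], [1, 3, 1, 1], [2, 3, 1, 1]]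

/-- second transversal -/
def B_z : List (List ℕ) := [[], [2, 2], [1, 1, 0], [2, 3, 0], [2, 0, 2], [0, 3, 2], [3, 0, 3], [1, 0, 1, 0], [2, 0, 3, 0], [0, 3, 0, 2], [1, 1, 3, 2], [1, 1, 2, 3]]

theorem bd_z {L : Type*} [Group L] [Finite L] (D : KFacts.HS.Mod L) : 360 ≤ Nat.card {t : L // D.au (hw [4]) t = t} :=
  bound D (gens := g_z) (by decide +kernel) 0 3 (by norm_num) (by norm_num) A_z B_z (by decide +kernel)
    (by decide +kernel) (by decide +kernel)

/-- generators for `d` -/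
def g_d : List (List ℕ) := [[1, 3, 1, 2, 1, 4, 3, 4, 2, 2, 4, 1, 3, 1, 2, 1, 4, 3], [1, 3, 1, 2, 1, 4, 3, 1, 3, 1, 2, 1, 4, 3, 4, 2, 2, 4], [0], [1, 3, 1, 2, 1, 4, 3, 4, 2, 4, 3, 1, 3, 1, 2, 1, 4, 3, 4, 2, 4, 2]]

/-- first transversal -/
def A_d : List (List ℕ) := [[], [0], [1], [2], [3], [1, 0], [2, 0], [3, 0], [2, 1], [3, 1], [1, 2], [3, 2], [2, 3], [0, 1, 0], [3, 1, 0], [0, 3, 0], [3, 2, 1], [0, 3, 1], [2, 3, 1], [0, 1, 2], [0, 3, 2], [3, 0, 1, 0], [0, 3, 1, 0], [1, 0, 3, 0], [0, 3, 2, 1], [1, 0, 3, 1], [2, 0, 3, 1], [3, 0, 1, 2], [1, 0, 3, 2], [1, 0, 3, 2, 1], [0, 1, 0, 3, 1], [2, 1, 0, 3, 1]]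

/-- second transversal -/
def B_d : List (List ℕ) := [[], [1, 0, 1], [3, 0, 3], [2, 1, 2, 1, 0], [2, 0, 1, 2, 1], [1, 2, 0, 1, 2, 0], [3, 2, 0, 3, 2, 0], [3, 0, 3, 1, 0, 1], [2, 0, 1, 2, 0, 1], [1, 0, 3, 1, 0, 3], [2, 0, 3, 2, 0, 3], [2, 0, 1, 0, 1, 2, 0]]

theorem bd_d {L : Type*} [Group L] [Finite L] (D : KFacts.HS.Mod L) : 384 ≤ Nat.card {t : L // D.au (hw [1, 3, 1, 2, 1, 4, 3, 4, 2, 4]) t = t} :=
  bound D (gens := g_d) (by decide +kernel) 0 5 (by norm_num) (by norm_num) A_d B_d (by decide +kernel)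
    (by decide +kernel) (by decide +kernel)

/-- conjugate automorphisms have equally many fixed points -/
theorem card_conj {G : Type*} [Group G] (α β : MulAut G) :
    Nat.card {t : G // (β * α * β⁻¹) t = t} = Nat.card {t : G // α t = t} := by
  refine Nat.card_congr (β.symm.toEquiv.subtypeEquiv fun a => ?_)
  change β (α (β.symm a)) = a ↔ α (β.symm a) = β.symm a
  constructor
  · intro h
    apply β.injective
    rw [h, MulEquiv.apply_symm_apply]
  · intro h
    rw [h, MulEquiv.apply_symm_apply]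

theorem card_of_isConj {L : Type*} [Group L] (D : KFacts.HS.Mod L) {u h : H0} (huh : IsConj u h) :
    Nat.card {t : L // D.au h t = t} = Nat.card {t : L // D.au u t = t} := by
  obtain ⟨c, rfl⟩ := isConj_iff.1 huh
  rw [map_mul, map_mul, map_inv]
  exact card_conj _ _

theorem cube_mod {L : Type*} [Group L] (D : KFacts.HS.Mod L) (hcard : Nat.card L = 44352000) : CubeBound L := by
  have hfin : Finite L := Nat.finite_of_card_ne_zero (by rw [hcard]; norm_num)
  intro α hα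
  have hsq : α * α = 1 := mul_self_of_order hα
  have hα1 : α ≠ 1 := by
    rintro rfl
    rw [orderOf_one] at hα
    omega
  suffices h : 354 ≤ Nat.card {t : L // α t = t} by
    rw [hcard]
    calc 44352000 < 354 ^ 3 := by norm_num
      _ ≤ _ := Nat.pow_le_pow_left h 3
  obtain ⟨h, rfl⟩ := D.au_surj α
  rw [← map_mul, D.au_ker] at hsq
  rcases Syl.sq_cases (g := h) (by rwa [pow_two]) with h1 | h1 | h1 | h1 | h1 | h1 | h1
  · exact absurd ((D.au_ker h).2 (Or.inl h1)) hα1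
  · exact absurd ((D.au_ker h).2 (Or.inr h1)) hα1
  · rw [card_of_isConj D h1, ← Syl.hw_a]
    exact le_trans (by norm_num) (bd_a D)
  · rw [card_of_isConj D h1, map_mul, (D.au_ker τ).2 (Or.inr rfl), mul_one, ← Syl.hw_a]
    exact le_trans (by norm_num) (bd_a D)
  · rw [card_of_isConj D h1, ← hw_x]
    exact le_trans (by norm_num) (bd_x D)
  · rw [card_of_isConj D h1, ← hw_z]
    exact le_trans (by norm_num) (bd_z D)
  · rw [card_of_isConj D h1]
    exact le_trans (by norm_num) (bd_d D)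

theorem cube_HS {G : Type*} [Group G] (h : Cfsg.Spor.IsoHS G) : CubeBound G := by
  obtain ⟨D⟩ := exists_mod h
  exact cube_mod D (D.card)

end Cfsg.Agent.H692.CubeHS
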