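import Mathlib
import Cfsg.Prelude.Def_Characters
import Cfsg.Prelude.Def_Blocks
import Cfsg.Agent.Characters.Linear
import Cfsg.Agent.H692.RealOver
import Cfsg.Agent.H692.KeyReal

/-!
# Characters of degree prime to `p` restricted to a `p`-subgroup
-/

set_option autoImplicit false
open Cfsg

namespace Cfsg.Agent.H692.LinConst

open Cfsg.Agent.Characters.Core Cfsg.Agent.Characters.Clifford Cfsg.Agent.H692.RealAct
open Cfsg.Agent.H692.SqRoot Cfsg.Agent.H692.RealOver Cfsg.Agent.H692.Cliff Cfsg.Agent.H692.KeyReal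
open scoped ComplexConjugate

universe u
variable {G : Type u} [Group G]

/-- A character of degree prime to `p` has a linear constituent on every `p`-subgroup. -/
theorem exists_linear_constituent [Finite G] {p : ℕ} (hp : p.Prime) (P : Subgroup G) [Fintype P]
    (hP : IsPGroup p P) {χ : G → ℂ} (hχ : IsIrrCharacter G χ) (hd : ¬ p ∣ charDegree χ) :
    ∃ f : P →* ℂˣ, classInner (fun x : P => χ x) (fun x => (f x : ℂ)) ≠ 0 := by
  classical
  have hfp : Fact p.Prime := ⟨hp⟩
  have hfin : Finite (IrrCharacter P) := finite_irr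
  have hft : Fintype (IrrCharacter P) := Fintype.ofFinite _
  obtain ⟨c, hc1, hc2⟩ := Cfsg.Agent.CharDeep.CliffordCorr.exists_nat_coeffs
    (isCharacter_restrict P (isIrr_isCharacter hχ))
  have h1 := congrFun hc1 1
  simp only [Finset.sum_apply, Pi.smul_apply, smul_eq_mul, OneMemClass.coe_one] at h1
  rw [(charDegree_spec hχ).1] at h1
  have h2 : (charDegree χ : ℂ) =
      ((∑ ψ : IrrCharacter P, c ψ * charDegree (ψ : P → ℂ) : ℕ) : ℂ) := by
    rw [h1]
    push_cast
    refine Finset.sum_congr rfl fun ψ _ => ?_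
    rw [(charDegree_spec ψ.2).1]
  have h3 : charDegree χ = ∑ ψ : IrrCharacter P, c ψ * charDegree (ψ : P → ℂ) := by
    exact_mod_cast h2
  obtain ⟨ψ, hψ⟩ : ∃ ψ : IrrCharacter P, ¬ p ∣ c ψ * charDegree (ψ : P → ℂ) := by
    by_contra hcon
    push Not at hcon
    apply hd
    rw [h3]
    exact Finset.dvd_sum fun ψ _ => hcon ψ
  have h4 : ¬ p ∣ charDegree (ψ : P → ℂ) := fun h => hψ (h.mul_left _)
  have h5 : c ψ ≠ 0 := by
    intro h
    rw [h, zero_mul] at hψ
    exact hψ (dvd_zero p)
  obtain ⟨k, hk⟩ := hP.exists_card_eq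
  have h6 : charDegree (ψ : P → ℂ) ∣ p ^ k := hk ▸ charDegree_dvd ψ.2
  obtain ⟨i, -, hi⟩ := (Nat.dvd_prime_pow hp).1 h6
  have h7 : charDegree (ψ : P → ℂ) = 1 := by
    rcases Nat.eq_zero_or_pos i with h | h
    · rw [hi, h, pow_zero]
    · exact absurd (hi ▸ dvd_pow_self p h.ne') h4
  obtain ⟨f, hf⟩ := Cfsg.Agent.Characters.Linear.exists_hom_of_isIrrCharacter ψ.2 (by
    rw [(charDegree_spec ψ.2).1, h7, Nat.cast_one])
  refine ⟨f, ?_⟩
  rw [← hf, hc2 ψ]
  exact_mod_cast h5

/-- If the restriction of `χ` to `P` contains a linear character trivial on `M ≤ P`, `M` normal in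
`G`, then `χ` contains the trivial character of `M`. -/
theorem classInner_one_ne_zero [Fintype G] (P M : Subgroup G) [Fintype P] [Fintype M]
    (hMP : M ≤ P) {χ : G → ℂ} (hχ : IsIrrCharacter G χ) (f : P →* ℂˣ)
    (hf : classInner (fun x : P => χ x) (fun x => (f x : ℂ)) ≠ 0)
    (hM : ∀ m (hm : m ∈ M), f ⟨m, hMP hm⟩ = 1) :
    classInner (fun x : M => χ x) (fun _ => (1 : ℂ)) ≠ 0 := by
  classical
  have hfin : Finite (IrrCharacter P) := finite_irr
  have hft : Fintype (IrrCharacter P) := Fintype.ofFinite _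
  obtain ⟨c, hc1, hc2⟩ := Cfsg.Agent.CharDeep.CliffordCorr.exists_nat_coeffs
    (isCharacter_restrict P (isIrr_isCharacter hχ))
  -- restrictions to `M`
  have hcomp : ∀ ψ : IrrCharacter P, IsCharacter M
      (fun m : M => (ψ : P → ℂ) (Subgroup.inclusion hMP m)) := fun ψ =>
    isCharacter_comp (Subgroup.inclusion hMP) (isIrr_isCharacter ψ.2)
  choose e he using fun ψ : IrrCharacter P =>
    classInner_isNat (hcomp ψ) (isIrr_isCharacter (isIrr_one (G := M)))
  let F : IrrCharacter P := ⟨_, Cfsg.Agent.Characters.Linear.isIrrCharacter_hom f⟩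
  have hcF : c F ≠ 0 := by
    have := hc2 F
    intro h
    rw [h, Nat.cast_zero] at this
    exact hf this
  have heF : e F = 1 := by
    have h1 := he F
    have h2 : (fun m : M => (F : P → ℂ) (Subgroup.inclusion hMP m)) = (1 : M → ℂ) := by
      funext m
      show (f (Subgroup.inclusion hMP m) : ℂ) = 1
      have : Subgroup.inclusion hMP m = ⟨(m : G), hMP m.2⟩ := rfl
      rw [this, hM m m.2, Units.val_one]
    rw [h2, classInner_irr_self isIrr_one] at h1
    exact_mod_cast h1.symm
  have htot : classInner (fun x : M => χ x) (fun _ => (1 : ℂ)) =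
      ((∑ ψ : IrrCharacter P, c ψ * e ψ : ℕ) : ℂ) := by
    have h1 : (fun m : M => χ m) =
        ∑ ψ : IrrCharacter P, (c ψ : ℂ) • (fun m : M => (ψ : P → ℂ) (Subgroup.inclusion hMP m)) := by
      funext m
      have := congrFun hc1 (Subgroup.inclusion hMP m)
      simp only [Finset.sum_apply, Pi.smul_apply] at this ⊢
      exact this
    rw [h1]
    show classInner _ (1 : M → ℂ) = _
    rw [classInner_sum_left]
    push_cast
    refine Finset.sum_congr rfl fun ψ _ => ?_
    rw [classInner_smul_left, he]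
  rw [htot]
  have hpos : 0 < ∑ ψ : IrrCharacter P, c ψ * e ψ := by
    refine Finset.sum_pos' (fun _ _ => Nat.zero_le _) ⟨F, Finset.mem_univ _, ?_⟩
    rw [heF, mul_one]
    exact Nat.pos_of_ne_zero hcF
  exact_mod_cast hpos.ne'

/-- An element acting as an involution on a nontrivial way on the normal subgroup `M` sends some
nontrivial irreducible character to its complex conjugate. -/
theorem exists_conj_irr [Finite G] (M : Subgroup G) [hM : M.Normal] {t : G}
    (ht : ∃ n ∈ M, t * n ≠ n * t) (ht2 : ∀ n ∈ M, t * t * n = n * (t * t)) :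
    ∃ θ : IrrCharacter M, (θ : M → ℂ) ≠ 1 ∧
      ∃ s : G, ∀ m : M, (θ : M → ℂ) (MulAut.conjNormal s m) = conj ((θ : M → ℂ) m) := by
  classical
  obtain ⟨n, hn, hne⟩ := ht
  set n0 : M := ⟨n, hn⟩ with hn0
  have h4 : MulAut.conjNormal t (MulAut.conjNormal t n0) = n0 := by
    apply Subtype.ext
    rw [MulAut.conjNormal_apply, MulAut.conjNormal_apply]
    have h5 := ht2 n0 n0.2
    have h6 : t * (t * (n0 : G) * t⁻¹) * t⁻¹ = (t * t * (n0 : G)) * (t * t)⁻¹ := by group
    rw [h6, h5, mul_inv_cancel_right]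
  set y : M := n0⁻¹ * MulAut.conjNormal t n0 with hy
  have hy1 : y ≠ 1 := by
    intro h
    apply hne
    have h2 : n0 = MulAut.conjNormal t n0 := inv_mul_eq_one.1 h
    have h3 := congrArg Subtype.val h2
    rw [MulAut.conjNormal_apply] at h3
    have h7 : n = t * n * t⁻¹ := h3
    exact (mul_inv_eq_iff_eq_mul.1 h7.symm)
  have hty : MulAut.conjNormal t y = y⁻¹ := by
    rw [hy, map_mul, map_inv, h4, mul_inv_rev, inv_inv]
  have hC : clInv (clSmul t (ConjClasses.mk y)) = ConjClasses.mk y := by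
    rw [clSmul_mk, clInv_mk, hty, inv_inv]
  have hC1 : clInv (clSmul t (ConjClasses.mk (1 : M))) = ConjClasses.mk 1 := by
    rw [clSmul_mk, clInv_mk, map_one, inv_one]
  have hne' : ConjClasses.mk y ≠ ConjClasses.mk (1 : M) := by
    intro h
    rw [ConjClasses.mk_eq_mk_iff_isConj, isConj_one_left] at h
    exact hy1 h
  have hcard := card_fixed_conj (K := M) t
  have hfin : Finite (IrrCharacter M) := finite_irr
  have hfin2 : Finite (ConjClasses M) := inferInstance
  have hgt : 1 < Nat.card {C : ConjClasses M // clInv (clSmul t C) = C} := by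
    rw [Finite.one_lt_card_iff_nontrivial]
    exact ⟨⟨_, hC⟩, ⟨_, hC1⟩, fun h => hne' (congrArg Subtype.val h)⟩
  rw [← hcard, Finite.one_lt_card_iff_nontrivial] at hgt
  let one : IrrCharacter M := ⟨1, isIrr_one⟩
  have hone : irrConj (irrSmul t one) = one := by
    apply Subtype.ext
    funext k
    rw [irrConj_apply, irrSmul_apply]
    show conj ((1 : M → ℂ) _) = (1 : M → ℂ) k
    simp
  obtain ⟨θ, hθ⟩ := @exists_ne _ hgt ⟨one, hone⟩
  refine ⟨θ.1, fun h => hθ (Subtype.ext (Subtype.ext h)), t⁻¹, fun m => ?_⟩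
  have h8 := congrFun (congrArg Subtype.val θ.2) m
  rw [irrConj_apply, irrSmul_apply] at h8
  rw [← h8, Complex.conj_conj]

end Cfsg.Agent.H692.LinConst
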