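import Mathlib
import Cfsg.Agent.H692.NSyl
import Cfsg.Agent.H692.NormalSylow

/-!
# Actions with equal fixed point counts

Let `G` act on the finite sets `X` and `Y` so that every element has the same number of fixed
points on both.  If `O^{p'}(G)` is solvable and all orbits on `X` have size prime to `p`, then so
have all orbits on `Y`.
-/

set_option autoImplicit false

namespace Cfsg.Agent.H692.OrbitPrime

open Cfsg.Agent.H692.NSyl

universe u v

/-- The set of orbits of the subgroup `M`. -/
def OrbQ {G : Type u} [Group G] (M : Subgroup G) (X : Type v) [MulAction G X] : Type v :=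
  MulAction.orbitRel.Quotient M X

variable {G : Type u} [Group G] {X : Type v} [MulAction G X]

/-- The orbit of a point. -/
def mk (M : Subgroup G) (x : X) : OrbQ M X := Quotient.mk'' x

theorem mk_eq_mk {M : Subgroup G} {x y : X} : mk M x = mk M y ↔ ∃ m ∈ M, m • y = x := by
  show (Quotient.mk'' x : MulAction.orbitRel.Quotient M X) = Quotient.mk'' y ↔ _
  rw [Quotient.eq'']
  constructor
  · rintro ⟨m, hm⟩
    exact ⟨m, m.2, hm⟩
  · rintro ⟨m, hm, h⟩
    exact ⟨⟨m, hm⟩, h⟩

theorem mk_surjective (M : Subgroup G) (q : OrbQ M X) : ∃ x : X, mk M x = q :=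
  Quotient.exists_rep q

instance finite_orbQ (M : Subgroup G) [Finite X] : Finite (OrbQ M X) :=
  Finite.of_surjective (mk M) (mk_surjective M)

/-- The action of `G` on the set of orbits of a normal subgroup. -/
instance orbQAction (M : Subgroup G) [hM : M.Normal] : MulAction G (OrbQ M X) where
  smul g := Quotient.map' (fun x => g • x) (by
    rintro x y ⟨m, hm⟩
    refine ⟨⟨g * m * g⁻¹, hM.conj_mem m m.2 g⟩, ?_⟩
    show (g * (m : G) * g⁻¹) • (g • y) = g • x
    have hm' : (m : G) • y = x := hm
    rw [← hm', smul_smul, smul_smul, inv_mul_cancel_right])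
  one_smul := by
    rintro ⟨x⟩
    show mk M ((1 : G) • x) = mk M x
    rw [one_smul]
  mul_smul := by
    rintro a b ⟨x⟩
    show mk M ((a * b) • x) = mk M (a • b • x)
    rw [mul_smul]

theorem smul_mk (M : Subgroup G) [M.Normal] (g : G) (x : X) : g • mk M x = mk M (g • x) := rfl

/-- `M` acts trivially on its orbits. -/
theorem smul_of_mem {M : Subgroup G} [M.Normal] {g : G} (hg : g ∈ M) (q : OrbQ M X) :
    g • q = q := by
  obtain ⟨x, rfl⟩ := mk_surjective M q
  rw [smul_mk]
  exact mk_eq_mk.2 ⟨g, hg, rfl⟩

/-- The stabilizer of an orbit. -/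
theorem mem_stabilizer_mk {M : Subgroup G} [M.Normal] {x : X} {g : G} :
    g ∈ MulAction.stabilizer G (mk M x) ↔ ∃ m ∈ M, m⁻¹ * g ∈ MulAction.stabilizer G x := by
  rw [MulAction.mem_stabilizer_iff, smul_mk, mk_eq_mk]
  constructor
  · rintro ⟨m, hm, h⟩
    refine ⟨m, hm, ?_⟩
    rw [MulAction.mem_stabilizer_iff, mul_smul, ← h, inv_smul_smul]
  · rintro ⟨m, hm, h⟩
    refine ⟨m, hm, ?_⟩
    rw [MulAction.mem_stabilizer_iff, mul_smul, inv_smul_eq_iff] at h
    exact h.symm

theorem stabilizer_mk {M : Subgroup G} [M.Normal] (x : X) :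
    MulAction.stabilizer G (mk M x) = M ⊔ MulAction.stabilizer G x := by
  ext g
  rw [mem_stabilizer_mk, Subgroup.mem_sup_of_normal_left]
  constructor
  · rintro ⟨m, hm, h⟩
    exact ⟨m, hm, m⁻¹ * g, h, by group⟩
  · rintro ⟨m, hm, h, hh, rfl⟩
    exact ⟨m, hm, by rwa [inv_mul_cancel_left]⟩

/-- The number of fixed points on the set of orbits. -/
theorem card_fixedBy_orbQ [Finite G] [Finite X] (M : Subgroup G) [hM : M.Normal] (a : G) :
    Nat.card (MulAction.fixedBy (OrbQ M X) a) * Nat.card M =
      ∑ᶠ m : M, Nat.card (MulAction.fixedBy X ((m : G) * a)) := by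
  classical
  have : Fintype M := Fintype.ofFinite _
  have : Fintype X := Fintype.ofFinite _
  have : Fintype (OrbQ M X) := Fintype.ofFinite _
  rw [finsum_eq_sum_of_fintype]
  -- double counting
  have h1 : ∀ m : M, Nat.card (MulAction.fixedBy X ((m : G) * a)) =
      ∑ x : X, if (m : G) • a • x = x then 1 else 0 := by
    intro m
    rw [Finset.sum_boole, Nat.card_eq_fintype_card, Fintype.card_subtype]
    simp only [MulAction.mem_fixedBy, mul_smul, Nat.cast_id]
  rw [Finset.sum_congr rfl fun m _ => h1 m, Finset.sum_comm]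
  have h2 : ∀ x : X, (∑ m : M, if (m : G) • a • x = x then 1 else 0) =
      if a • mk M x = mk M x then Nat.card (MulAction.stabilizer M x) else 0 := by
    intro x
    split_ifs with h
    · rw [smul_mk, mk_eq_mk] at h
      obtain ⟨m0, hm0, hm⟩ := h
      rw [Finset.sum_boole, Nat.cast_id, ← Fintype.card_subtype, ← Nat.card_eq_fintype_card]
      refine Nat.card_congr
        { toFun := fun m => ⟨m.1 * ⟨m0, hm0⟩, ?_⟩
          invFun := fun m => ⟨m.1 * ⟨m0, hm0⟩⁻¹, ?_⟩
          left_inv := fun m => ?_
          right_inv := fun m => ?_ }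
      · rw [MulAction.mem_stabilizer_iff]
        show ((m.1 : G) * m0) • x = x
        rw [mul_smul, hm]
        exact m.2
      · show ((m.1 : G) * m0⁻¹) • a • x = x
        rw [← hm, mul_smul, inv_smul_smul]
        exact MulAction.mem_stabilizer_iff.1 m.2
      · apply Subtype.ext
        simp
      · apply Subtype.ext
        simp
    · refine Finset.sum_eq_zero fun m _ => ?_
      rw [if_neg]
      intro hx
      apply h
      rw [smul_mk, mk_eq_mk]
      refine ⟨(m : G)⁻¹, M.inv_mem m.2, ?_⟩
      rw [inv_smul_eq_iff]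
      exact hx.symm
  rw [Finset.sum_congr rfl fun x _ => h2 x]
  have h3 : ∀ q : OrbQ M X, (∑ x : X with mk M x = q, if a • mk M x = mk M x then
      Nat.card (MulAction.stabilizer M x) else 0) =
      if a • q = q then Nat.card M else 0 := by
    intro q
    obtain ⟨x0, rfl⟩ := mk_surjective M q
    have h4 : ∀ x ∈ Finset.univ.filter (fun x : X => mk M x = mk M x0),
        (if a • mk M x = mk M x then Nat.card (MulAction.stabilizer M x) else 0) =
        if a • mk M x0 = mk M x0 then Nat.card (MulAction.stabilizer M x0) else 0 := by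
      intro x hx
      have hx' := (Finset.mem_filter.1 hx).2
      rw [hx']
      split_ifs with h
      · obtain ⟨m, hm, rfl⟩ := mk_eq_mk.1 hx'
        have h5 : MulAction.stabilizer M (m • x0) =
            (MulAction.stabilizer M x0).map (MulAut.conj (⟨m, hm⟩ : M)).toMonoidHom :=
          MulAction.stabilizer_smul_eq_stabilizer_map_conj (⟨m, hm⟩ : M) x0
        rw [h5]
        exact Subgroup.card_map_of_injective (MulAut.conj (⟨m, hm⟩ : M)).injective
      · rfl
    rw [Finset.sum_congr rfl h4, Finset.sum_const, smul_eq_mul]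
    split_ifs with h
    · have h6 : (Finset.univ.filter (fun x : X => mk M x = mk M x0)).card =
          Nat.card (MulAction.orbit M x0) := by
        rw [Nat.card_eq_fintype_card, ← Set.toFinset_card]
        congr 1
        ext x
        rw [Finset.mem_filter, Set.mem_toFinset]
        constructor
        · rintro ⟨-, hx⟩
          obtain ⟨m, hm, h7⟩ := mk_eq_mk.1 hx
          exact ⟨⟨m, hm⟩, h7⟩
        · rintro ⟨m, hm⟩
          exact ⟨Finset.mem_univ _, mk_eq_mk.2 ⟨m, m.2, hm⟩⟩
      rw [h6, Nat.card_eq_fintype_card, Nat.card_eq_fintype_card, Nat.card_eq_fintype_card]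
      exact MulAction.card_orbit_mul_card_stabilizer_eq_card_group M x0
    · rw [mul_zero]
  have h8 : ∑ x : X, (if a • mk M x = mk M x then Nat.card (MulAction.stabilizer M x) else 0) =
      ∑ q : OrbQ M X, ∑ x : X with mk M x = q, (if a • mk M x = mk M x then
        Nat.card (MulAction.stabilizer M x) else 0) :=
    (Finset.sum_fiberwise Finset.univ (fun x => mk M x) _).symm
  rw [h8, Finset.sum_congr rfl fun q _ => h3 q, ← Finset.sum_filter, Finset.sum_const, smul_eq_mul]
  congr 1
  rw [Nat.card_eq_fintype_card, Fintype.card_subtype]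
  rfl

/-- Equal fixed point counts pass to the orbits of a normal subgroup. -/
theorem card_fixedBy_orbQ_eq [Finite G] [Finite X] {Y : Type v} [MulAction G Y] [Finite Y]
    (h : ∀ g : G, Nat.card (MulAction.fixedBy X g) = Nat.card (MulAction.fixedBy Y g))
    (M : Subgroup G) [hM : M.Normal] (a : G) :
    Nat.card (MulAction.fixedBy (OrbQ M X) a) = Nat.card (MulAction.fixedBy (OrbQ M Y) a) := by
  have h1 := card_fixedBy_orbQ (X := X) M a
  have h2 := card_fixedBy_orbQ (X := Y) M a
  rw [finsum_congr fun m : M => h ((m : G) * a), ← h2] at h1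
  exact Nat.eq_of_mul_eq_mul_right Nat.card_pos h1

/-- For `R` normal, `|R : T ∩ R|` divides `|G : T|`. -/
theorem relIndex_dvd_index [Finite G] (T R : Subgroup G) [R.Normal] : T.relIndex R ∣ T.index := by
  have h1 : (T ⊓ R).relIndex R * R.index = (T ⊓ R).index :=
    Subgroup.relIndex_mul_index inf_le_right
  have h2 : (T ⊓ R).relIndex T * T.index = (T ⊓ R).index :=
    Subgroup.relIndex_mul_index inf_le_left
  rw [Subgroup.inf_relIndex_right] at h1
  rw [Subgroup.inf_relIndex_left] at h2
  obtain ⟨c, hc⟩ : R.relIndex T ∣ R.index := Subgroup.relIndex_dvd_index_of_normal R T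
  have h3 : R.relIndex T ≠ 0 := by
    rw [Subgroup.relIndex]
    exact Subgroup.index_ne_zero_of_finite
  refine ⟨c, ?_⟩
  apply Nat.eq_of_mul_eq_mul_left (Nat.pos_of_ne_zero h3)
  rw [h2, ← h1, hc]
  ring

/-- For `M` normal, `|M L : L| = |M : M ∩ L|`. -/
theorem relIndex_sup_eq [Finite G] (L M : Subgroup G) [M.Normal] :
    L.relIndex (M ⊔ L) = L.relIndex M := by
  have h1 : (M ⊓ L).relIndex L * L.relIndex (M ⊔ L) = (M ⊓ L).relIndex (M ⊔ L) :=
    Subgroup.relIndex_mul_relIndex _ _ _ inf_le_right le_sup_right
  have h2 : (M ⊓ L).relIndex M * M.relIndex (M ⊔ L) = (M ⊓ L).relIndex (M ⊔ L) :=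
    Subgroup.relIndex_mul_relIndex _ _ _ inf_le_left le_sup_left
  rw [Subgroup.relIndex_sup_left] at h2
  rw [Subgroup.inf_relIndex_right] at h1
  rw [Subgroup.inf_relIndex_left] at h2
  have h3 : M.relIndex L ≠ 0 := by
    rw [Subgroup.relIndex]
    exact Subgroup.index_ne_zero_of_finite
  apply Nat.eq_of_mul_eq_mul_left (Nat.pos_of_ne_zero h3)
  rw [h1, ← h2, mul_comm]

/-- **All orbits on `Y` have size prime to `p`.** -/
theorem orbits_prime [Finite G] {p : ℕ} [hp : Fact p.Prime] (hs : Group.IsSolvable (pGen p G))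
    (n : ℕ) : ∀ (B : Subgroup G), B.Normal → B.index = n →
      ∀ (X Y : Type v) [Finite X] [Finite Y] [MulAction G X] [MulAction G Y],
      (∀ b ∈ B, ∀ x : X, b • x = x) → (∀ b ∈ B, ∀ y : Y, b • y = y) →
      (∀ g : G, Nat.card (MulAction.fixedBy X g) = Nat.card (MulAction.fixedBy Y g)) →
      (∀ x : X, ¬ p ∣ (MulAction.stabilizer G x).index) →
      ∀ y : Y, ¬ p ∣ (MulAction.stabilizer G y).index := by
  induction n using Nat.strong_induction_on with
  | _ n ih =>
  intro B hBn hB X Y _ _ _ _ hBX hBY hfix hX y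
  have hBsY : ∀ y : Y, B ≤ MulAction.stabilizer G y := fun y b hb => hBY b hb y
  have hBsX : ∀ x : X, B ≤ MulAction.stabilizer G x := fun x b hb => hBX b hb x
  have hEn : (pGen p G).Normal := pGen_normal p
  by_cases hE : pGen p G ≤ B
  · intro hd
    have h1 : ¬ p ∣ B.relIndex ⊤ :=
      Cfsg.Agent.H692.NormalSylow.not_dvd_relIndex (inf_le_left.trans hE)
    rw [Subgroup.relIndex_top_right] at h1
    exact h1 (hd.trans (Subgroup.index_dvd_of_le (hBsY y)))
  · -- a minimal normal subgroup of `G ⧸ B`
    have hsurj := QuotientGroup.mk'_surjective B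
    have hX1 : (pGen p G).map (QuotientGroup.mk' B) ≠ ⊥ := by
      intro h
      apply hE
      rw [Subgroup.map_eq_bot_iff, QuotientGroup.ker_mk'] at h
      exact h
    obtain ⟨N, hNn, hNX, hN1, hmin⟩ := exists_minimal_normal
      ((pGen p G).map (QuotientGroup.mk' B)) (Subgroup.Normal.map hEn _ hsurj) hX1
    obtain ⟨hab, r, hr, hel⟩ := elementary_of_minimal N hNn hN1 hmin
      (Cfsg.Agent.H692.NormalSylow.isSolvable_of_le hNX
        (Cfsg.Agent.H692.NormalSylow.isSolvable_map _ hs))
    have hfr : Fact r.Prime := ⟨hr⟩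
    have hNr : IsPGroup r N := fun x => ⟨1, by
      rw [pow_one]
      exact Subtype.ext (hel x x.2)⟩
    obtain ⟨d, hd⟩ := hNr.exists_card_eq
    set M : Subgroup G := N.comap (QuotientGroup.mk' B) with hM
    have hMn : M.Normal := inferInstance
    have hBM : B ≤ M := by
      intro b hb
      rw [hM, Subgroup.mem_comap]
      have : QuotientGroup.mk' B b = 1 := by
        rw [← MonoidHom.mem_ker, QuotientGroup.ker_mk']
        exact hb
      rw [this]
      exact N.one_mem
    have hidx : B.relIndex M = r ^ d := by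
      have h6 := Subgroup.relIndex_ker M (QuotientGroup.mk' B)
      rw [QuotientGroup.ker_mk', hM, Subgroup.map_comap_eq_self_of_surjective hsurj] at h6
      rw [← hd]
      exact h6
    have hlt : M.index < n := by
      rw [← hB, ← Subgroup.relIndex_mul_index hBM]
      have h1 : 1 < B.relIndex M := by
        rw [hidx, ← hd, Finite.one_lt_card_iff_nontrivial]
        exact (Subgroup.nontrivial_iff_ne_bot N).2 hN1
      have h2 : 0 < M.index := Nat.pos_of_ne_zero Subgroup.index_ne_zero_of_finite
      nlinarith
    by_cases hrp : r = p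
    · -- `M` acts trivially
      have hMX : ∀ m ∈ M, ∀ x : X, m • x = x := by
        intro m hm x
        have h1 : (MulAction.stabilizer G x).relIndex M ∣ (MulAction.stabilizer G x).index :=
          relIndex_dvd_index _ _
        have h2 : (MulAction.stabilizer G x).relIndex M ∣ r ^ d :=
          hidx ▸ Subgroup.relIndex_dvd_of_le_left M (hBsX x)
        obtain ⟨i, -, hi⟩ := (Nat.dvd_prime_pow hr).1 h2
        rcases Nat.eq_zero_or_pos i with hi0 | hi0
        · rw [hi0, pow_zero, Subgroup.relIndex_eq_one] at hi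
          exact MulAction.mem_stabilizer_iff.1 (hi hm)
        · exfalso
          apply hX x
          refine dvd_trans ?_ h1
          rw [hi, hrp]
          exact dvd_pow_self p hi0.ne'
      have hMY : ∀ m ∈ M, ∀ y : Y, m • y = y := by
        intro m hm
        have h1 : MulAction.fixedBy X m = Set.univ := by
          ext x
          simp only [MulAction.mem_fixedBy, Set.mem_univ, iff_true]
          exact hMX m hm x
        have h2 : MulAction.fixedBy X (1 : G) = Set.univ := by
          ext x
          simp
        have h3 : MulAction.fixedBy Y (1 : G) = Set.univ := by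
          ext x
          simp
        have h4 := hfix m
        have h5 := hfix 1
        rw [h1] at h4
        rw [h2, h3] at h5
        have h6 : Nat.card (MulAction.fixedBy Y m) = Nat.card (Set.univ : Set Y) := by
          rw [← h4, h5]
        have h7 : MulAction.fixedBy Y m = Set.univ := by
          apply Set.eq_of_subset_of_ncard_le (Set.subset_univ _)
          rw [Set.ncard, Set.ncard]
          exact h6.ge
        intro y
        have : y ∈ MulAction.fixedBy Y m := by rw [h7]; trivial
        exact this
      exact ih _ hlt M hMn rfl X Y hMX hMY hfix hX y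
    · -- pass to the orbits of `M`
      have h1 := ih _ hlt M hMn rfl (OrbQ M X) (OrbQ M Y) (fun m hm q => smul_of_mem hm q)
        (fun m hm q => smul_of_mem hm q) (card_fixedBy_orbQ_eq hfix M) (by
          intro q
          obtain ⟨x, rfl⟩ := mk_surjective M q
          rw [stabilizer_mk]
          intro hd'
          exact hX x (hd'.trans (Subgroup.index_dvd_of_le le_sup_right))) (mk M y)
      rw [stabilizer_mk] at h1
      have h2 : (MulAction.stabilizer G y).relIndex (M ⊔ MulAction.stabilizer G y) *
          (M ⊔ MulAction.stabilizer G y).index = (MulAction.stabilizer G y).index :=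
        Subgroup.relIndex_mul_index le_sup_right
      rw [relIndex_sup_eq] at h2
      rw [← h2, hp.out.dvd_mul]
      refine not_or.2 ⟨?_, h1⟩
      intro h3
      have h4 : p ∣ r ^ d :=
        h3.trans (hidx ▸ Subgroup.relIndex_dvd_of_le_left M (hBsY y))
      exact hrp ((Nat.prime_dvd_prime_iff_eq hp.out hr).1 (hp.out.dvd_of_dvd_pow h4)).symm

end Cfsg.Agent.H692.OrbitPrime
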