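import Mathlib
import Cfsg.Prelude.Def_Characters
import Cfsg.Prelude.Def_Blocks
import Cfsg.Agent.S0193
import Cfsg.Agent.H692.RealOver
import Cfsg.Agent.H692.Cliff
import Cfsg.Agent.H692.NormalSylow
import Cfsg.Agent.H692.OrbitPrime

/-!
# Real characters and real elements for normal subgroups of odd index
-/

set_option autoImplicit false
open Cfsg

namespace Cfsg.Agent.H692.RealOdd

open Cfsg.Agent.Characters.Core Cfsg.Agent.Characters.Clifford Cfsg.Agent.H692.RealAct
open Cfsg.Agent.H692.RealOver Cfsg.Agent.H692.Cliff Cfsg.Agent.H692.NSyl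
open Cfsg.Agent.H692.NormalSylow Cfsg.Agent.H692.OrbitPrime
open scoped ComplexConjugate

universe u
variable {G : Type u} [Group G]

/-- The norm of the induced character is `|T : K|`. -/
theorem classInner_indFun_self [Fintype G] (K : Subgroup G) [hK : K.Normal] {θ : K → ℂ}
    (hθ : IsIrrCharacter K θ) :
    classInner (indFun K θ) (indFun K θ) = (K.relIndex (stab K θ) : ℂ) := by
  have h := Cfsg.Agent.S0193.result K θ hθ
  have h1 : Nat.card {g : G // ∀ h : K, θ ⟨g * h * g⁻¹, hK.conj_mem h h.2 g⟩ = θ h} =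
      Nat.card (stab K θ) := rfl
  have h2 : Nat.card K * K.relIndex (stab K θ) = Nat.card (stab K θ) := by
    have h3 := Subgroup.relIndex_mul_relIndex ⊥ K (stab K θ) bot_le
      (le_stab (isIrr_isClassFunction hθ))
    rwa [Subgroup.relIndex_bot_left, Subgroup.relIndex_bot_left] at h3
  have hc : (Nat.card K : ℂ) ≠ 0 := by exact_mod_cast Nat.card_pos.ne'
  apply mul_left_cancel₀ hc
  rw [h, h1, ← h2]
  push_cast
  rfl

/-- **Real over real in odd index.** -/
theorem exists_real_over_odd [Fintype G] (K : Subgroup G) [hK : K.Normal] [Fintype K]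
    (hodd : Odd K.index) {θ : K → ℂ} (hθ : IsIrrCharacter K θ) (hreal : ∀ k, (θ k).im = 0) :
    ∃ χ : IrrCharacter G, (∀ g, ((χ : G → ℂ) g).im = 0) ∧
      ∃ e : ℕ, Odd e ∧ classInner (fun n : K => (χ : G → ℂ) n) θ = e := by
  classical
  have hfin : Finite (IrrCharacter G) := finite_irr
  have hft : Fintype (IrrCharacter G) := Fintype.ofFinite _
  obtain ⟨c, hc1, hc2⟩ := Cfsg.Agent.CharDeep.CliffordCorr.exists_nat_coeffs_indFun
    K (isIrr_isCharacter hθ)
  have hc3 : ∀ χ : IrrCharacter G, classInner (fun n : K => (χ : G → ℂ) n) θ = c χ := by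
    intro χ
    rw [← classInner_conj_symm, hc2, Complex.conj_natCast]
  -- the sum of the squares
  have hsum : (∑ χ : IrrCharacter G, c χ ^ 2) = K.relIndex (stab K θ) := by
    have h1 := classInner_indFun_self K hθ
    have h2 : classInner (indFun K θ) (indFun K θ) = ((∑ χ : IrrCharacter G, c χ ^ 2 : ℕ) : ℂ) := by
      nth_rewrite 1 [hc1]
      rw [classInner_sum_left]
      push_cast
      refine Finset.sum_congr rfl fun χ _ => ?_
      rw [classInner_smul_left, ← classInner_conj_symm,
        Cfsg.Agent.CharactersDeep.NormalInd.classInner_indFun _ _ _ (isIrr_isClassFunction χ.2),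
        hc2, Complex.conj_natCast, sq]
    rw [h1] at h2
    exact_mod_cast h2.symm
  have hsodd : Odd (∑ χ : IrrCharacter G, c χ ^ 2) := by
    rw [hsum]
    have h3 : K.relIndex (stab K θ) ∣ K.index :=
      Subgroup.relIndex_dvd_index_of_le (le_stab (isIrr_isClassFunction hθ))
    exact Odd.of_dvd_nat hodd h3
  have hconj : ∀ χ : IrrCharacter G, c (irrConj χ) = c χ := by
    intro χ
    have h1 := hc3 (irrConj χ)
    have h2 : classInner (fun n : K => (irrConj χ : G → ℂ) n) θ =
        conj (classInner (fun n : K => (χ : G → ℂ) n) θ) := by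
      rw [← classInner_conj_conj]
      congr 1
      funext n
      exact (Complex.conj_eq_iff_im.2 (hreal n)).symm
    rw [h1, hc3, Complex.conj_natCast] at h2
    exact_mod_cast h2
  obtain ⟨χ, h1, h2⟩ := exists_real_of_odd_sum (fun χ => c χ ^ 2) (fun χ => by
    simp only [hconj]) hsodd
  refine ⟨χ, h1, c χ, ?_, hc3 χ⟩
  exact Nat.Odd.of_mul_left (by rwa [sq] at h2)

/-- The stabilizer in the action on real characters. -/
theorem stabilizer_rirr (K : Subgroup G) [hK : K.Normal] (θ : RIrr K) :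
    MulAction.stabilizer G θ = stab K ((θ.1 : IrrCharacter K) : K → ℂ) := by
  ext g
  rw [MulAction.mem_stabilizer_iff, ← Subgroup.inv_mem_iff (x := g)]
  constructor
  · intro h
    rw [mem_stab']
    intro n
    have h1 : irrSmul g θ.1 = θ.1 := by
      rw [← coe_smul_rirr, h]
    have h2 := congrFun (congrArg Subtype.val h1) n
    exact h2
  · intro h
    rw [mem_stab'] at h
    apply Subtype.ext
    rw [coe_smul_rirr]
    apply Subtype.ext
    funext n
    exact h n

/-- Orbits on real characters of a normal subgroup of odd index have size prime to `p`. -/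
theorem not_dvd_stabilizer_rirr [Finite G] {p : ℕ} (hreal : RealPrime p G) (K : Subgroup G)
    [hK : K.Normal] (hodd : Odd K.index) (θ : RIrr K) :
    ¬ p ∣ (MulAction.stabilizer G θ).index := by
  classical
  have hGf := Fintype.ofFinite G
  have hKf := Fintype.ofFinite K
  obtain ⟨χ, h1, e, he1, he2⟩ := exists_real_over_odd K hodd θ.1.2 θ.2
  have he0 : e ≠ 0 := by
    rintro rfl
    exact Nat.not_odd_zero he1
  obtain ⟨h2, -⟩ := degree_formula_nat K θ.1.2 χ.2 he0 he2
  rw [stabilizer_rirr]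
  intro h3
  apply hreal χ h1
  rw [h2, mul_assoc]
  exact h3.mul_right _

/-- Orbits on real classes of a normal subgroup of odd index have size prime to `p`. -/
theorem not_dvd_stabilizer_rcl [Finite G] {p : ℕ} [hp : Fact p.Prime]
    (hs : Group.IsSolvable (pGen p G)) (hreal : RealPrime p G) (K : Subgroup G)
    [hK : K.Normal] (hodd : Odd K.index) (C : RCl K) :
    ¬ p ∣ (MulAction.stabilizer G C).index := by
  refine orbits_prime hs _ K hK rfl (RIrr K) (RCl K) ?_ ?_ (card_fixedBy_eq hodd)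
    (not_dvd_stabilizer_rirr hreal K hodd) C
  · intro b hb θ
    apply Subtype.ext
    rw [coe_smul_rirr, irrSmul_of_mem hb]
  · intro b hb C
    apply Subtype.ext
    rw [coe_smul_rcl, clSmul_of_mem hb]

/-- `pGen p G` has index prime to `p`. -/
theorem not_dvd_index_pGen [Finite G] {p : ℕ} [hp : Fact p.Prime] : ¬ p ∣ (pGen p G).index := by
  have hn : (pGen p G).Normal := pGen_normal p
  have h1 : ¬ p ∣ (pGen p G).relIndex ⊤ := not_dvd_relIndex inf_le_left
  rwa [Subgroup.relIndex_top_right] at h1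

theorem odd_index_pGen [Finite G] : Odd (pGen 2 G).index := by
  rw [← Nat.not_even_iff_odd, even_iff_two_dvd]
  have : Fact (Nat.Prime 2) := ⟨Nat.prime_two⟩
  exact not_dvd_index_pGen

/-- A real element is inverted by an element of 2-power order. -/
theorem exists_two_element [Finite G] {x : G} (hx : IsConj x x⁻¹) :
    ∃ z : G, (∃ k, orderOf z = 2 ^ k) ∧ z * x * z⁻¹ = x⁻¹ := by
  obtain ⟨y, hy⟩ := isConj_iff.1 hx
  have hy0 : orderOf y ≠ 0 := (orderOf_pos y).ne'
  set a := (orderOf y).factorization 2 with ha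
  set m := orderOf y / 2 ^ a with hm
  have hmul : 2 ^ a * m = orderOf y := Nat.ordProj_mul_ordCompl_eq_self _ _
  have hmodd : Odd m := by
    rw [← Nat.not_even_iff_odd, even_iff_two_dvd]
    exact Nat.not_dvd_ordCompl Nat.prime_two hy0
  refine ⟨y ^ m, ?_, ?_⟩
  · have h3 : (y ^ m) ^ (2 ^ a) = 1 := by
      rw [← pow_mul, mul_comm, hmul, pow_orderOf_eq_one]
    obtain ⟨i, -, hi⟩ := (Nat.dvd_prime_pow Nat.prime_two).1 (orderOf_dvd_of_pow_eq_one h3)
    exact ⟨i, hi⟩
  · have hinv : y * x⁻¹ * y⁻¹ = x := by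
      have := congrArg (·⁻¹) hy
      simpa [mul_assoc] using this
    have key : ∀ n : ℕ, y ^ (2 * n) * x * (y ^ (2 * n))⁻¹ = x := by
      intro n
      induction n with
      | zero => simp
      | succ n ihn =>
        have h1 : y ^ (2 * (n + 1)) = y * y * y ^ (2 * n) := by
          rw [mul_add, pow_add, mul_one, sq, (Commute.self_pow y (2 * n)).symm.mul_right
            ((Commute.self_pow y (2 * n)).symm) |>.eq]
        rw [h1]
        calc y * y * y ^ (2 * n) * x * (y * y * y ^ (2 * n))⁻¹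
            = y * (y * (y ^ (2 * n) * x * (y ^ (2 * n))⁻¹) * y⁻¹) * y⁻¹ := by group
          _ = x := by rw [ihn, hy, hinv]
    obtain ⟨n, hn⟩ := hmodd
    rw [hn, pow_succ']
    calc y * y ^ (2 * n) * x * (y * y ^ (2 * n))⁻¹
        = y * (y ^ (2 * n) * x * (y ^ (2 * n))⁻¹) * y⁻¹ := by group
      _ = x⁻¹ := by rw [key, hy]

/-- Real elements lie in `pGen 2 G` and are real there. -/
theorem mem_of_real [Finite G] {x : G} (hx : IsConj x x⁻¹) :
    x ∈ pGen 2 G ∧ ∃ z ∈ pGen 2 G, z * x * z⁻¹ = x⁻¹ := by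
  obtain ⟨z, ⟨k, hk⟩, hz⟩ := exists_two_element hx
  have hzK : z ∈ pGen 2 G := mem_pGen hk
  have hKn : (pGen 2 G).Normal := pGen_normal 2
  refine ⟨?_, z, hzK, hz⟩
  have h1 : x⁻¹ * x⁻¹ ∈ pGen 2 G := by
    nth_rewrite 1 [← hz]
    have h2 : z * x * z⁻¹ * x⁻¹ = z * (x * z⁻¹ * x⁻¹) := by group
    rw [h2]
    exact (pGen 2 G).mul_mem hzK (hKn.conj_mem _ ((pGen 2 G).inv_mem hzK) x)
  have h3 : x * x ∈ pGen 2 G := by
    have := (pGen 2 G).inv_mem h1
    simpa using this
  obtain ⟨n, hn⟩ := (odd_index_pGen (G := G))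
  have h4 := Subgroup.pow_index_mem (pGen 2 G) x
  rw [hn, pow_succ, pow_mul, sq] at h4
  exact (Subgroup.mul_mem_cancel_left _ (Subgroup.pow_mem _ h3 n)).1 h4

end Cfsg.Agent.H692.RealOdd
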